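import Cfsg.Agent.Lib.PLocal.ZJCoprime.Fixed
import Cfsg.Agent.Lib.OddLocal.Final.OddOrder
import Cfsg.Agent.Lib.Core.Cores
import Mathlib.LinearAlgebra.Projectivization.PSL.PSL2
import Mathlib.GroupTheory.NoncommPiCoprod

/-!
# Sections `PSL(2, p)`, coprime fixed points, orbit products
-/

set_option autoImplicit false

namespace CfsgLib.PLocal.ZJCoprime

open Cfsg CfsgLib.QuadPair Subgroup Matrix
open scoped commutatorElement

variable {p : ℕ} [Fact p.Prime]

/-- `PSL(2, p)` is a quotient of a subgroup of `H`. -/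
def HasPSL (p : ℕ) [Fact p.Prime] {X : Type*} [Group X] (H : Subgroup X) : Prop :=
  ∃ (K : Subgroup X) (π : K →* Matrix.ProjectiveSpecialLinearGroup (Fin 2) (ZMod p)), K ≤ H ∧
    Function.Surjective π

theorem HasPSL.mono {X : Type*} [Group X] {H H' : Subgroup X} (h : HasPSL p H) (hle : H ≤ H') :
    HasPSL p H' := by
  obtain ⟨K, π, hK, hπ⟩ := h
  exact ⟨K, π, hK.trans hle, hπ⟩

theorem HasPSL.of_map {X Y : Type*} [Group X] [Group Y] (f : X →* Y) {H : Subgroup X}
    (h : HasPSL p (H.map f)) : HasPSL p H := by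
  obtain ⟨K, π, hK, hπ⟩ := h
  let K0 : Subgroup X := H ⊓ K.comap f
  let g : K0 →* K := (f.comp K0.subtype).codRestrict K fun x => x.2.2
  have hg : Function.Surjective g := by
    rintro ⟨k, hk⟩
    obtain ⟨x, hx, rfl⟩ := hK hk
    exact ⟨⟨x, hx, hk⟩, rfl⟩
  exact ⟨K0, π.comp g, inf_le_left, hπ.comp hg⟩

theorem HasPSL.map {X Y : Type*} [Group X] [Group Y] (f : X →* Y) (hf : Function.Injective f)
    {H : Subgroup X} (h : HasPSL p H) : HasPSL p (H.map f) := by
  obtain ⟨K, π, hK, hπ⟩ := h
  exact ⟨K.map f, π.comp (K.equivMapOfInjective f hf).symm.toMonoidHom, map_mono hK,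
    hπ.comp (MulEquiv.surjective _)⟩

theorem hasPSL_of_hom {X : Type*} [Group X] {K : Type*} [Group K] (ψ : K →* X) {H : Subgroup X}
    (π : K →* Matrix.ProjectiveSpecialLinearGroup (Fin 2) (ZMod p)) (hπ : Function.Surjective π)
    (hker : ψ.ker ≤ π.ker) (hH : ψ.range ≤ H) : HasPSL p H := by
  let π' := (ψ.rangeRestrict.liftOfSurjective ψ.rangeRestrict_surjective)
    ⟨π, by rw [MonoidHom.ker_rangeRestrict]; exact hker⟩
  refine ⟨ψ.range, π', hH, fun y => ?_⟩
  obtain ⟨k, hk⟩ := hπ y
  exact ⟨ψ.rangeRestrict k, by rw [MonoidHom.liftOfRightInverse_comp_apply]; exact hk⟩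

theorem psl_center_trivial (hp5 : 5 ≤ p) :
    Subgroup.center (Matrix.ProjectiveSpecialLinearGroup (Fin 2) (ZMod p)) = ⊥ := by
  have hF : ∃ a : ZMod p, a ≠ 0 ∧ a ^ 2 ≠ 1 := ⟨2, two_ne hp5, fun h => three_ne (p := p) hp5 (by linear_combination h)⟩
  haveI := Matrix.ProjectiveSpecialLinearGroup.rank_two_simple' hF
  rcases (inferInstance : (Subgroup.center (Matrix.ProjectiveSpecialLinearGroup (Fin 2) (ZMod p))).Normal).eq_bot_or_eq_top with h | h
  · exact h
  · exfalso
    have hc : ∀ x y : Matrix.ProjectiveSpecialLinearGroup (Fin 2) (ZMod p), x * y = y * x := fun x y =>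
      (Subgroup.mem_center_iff.1 (h.ge (mem_top y)) x)
    have htop : (⊤ : Subgroup (Matrix.SpecialLinearGroup (Fin 2) (ZMod p))) ≤
        Subgroup.center (Matrix.SpecialLinearGroup (Fin 2) (ZMod p)) := by
      obtain ⟨a, ha, ha2⟩ := hF
      rw [← Matrix.SL2.commutator_eq_top ha ha2, commutator_def, Subgroup.commutator_le]
      intro g _ g' _
      rw [← QuotientGroup.eq_one_iff]
      show QuotientGroup.mk' _ ⁅g, g'⁆ = 1
      rw [map_commutatorElement, commutatorElement_eq_one_iff_mul_comm]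
      exact hc _ _
    have h1 := Subgroup.mem_center_iff.1 (htop (mem_top (wS : Matrix.SpecialLinearGroup (Fin 2) (ZMod p)))) (up 1)
    have h2 := congrFun (congrFun (congrArg mat h1) 0) 0
    simp [mat_mul, wS_mat, up_coe] at h2

theorem Pair.hasPSL {V : Type} [AddCommGroup V] [Module (ZMod p) V]
    {H : Subgroup (LinearMap.GeneralLinearGroup (ZMod p) V)} {s q : Module.End (ZMod p) V}
    (h : Pair H s q) (hp5 : 5 ≤ p) : HasPSL p H :=
  hasPSL_of_hom h.rho (QuotientGroup.mk' _) (QuotientGroup.mk'_surjective _)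
    (fun x hx => by
      have : x = 1 := h.rho_injective (by rw [MonoidHom.mem_ker.1 hx, map_one])
      rw [this]; exact one_mem _)
    (h.rho_range hp5)

universe u

theorem solvable_or {X : Type u} [Group X] [Finite X] {A H : Subgroup X}
    (h : (Nat.card A).Coprime (Nat.card H)) : Group.IsSolvable A ∨ Group.IsSolvable H := by
  rcases Nat.even_or_odd (Nat.card A) with he | ho
  · refine Or.inr (CfsgLib.OddLocal.FTFinal.odd_order_solvable ?_)
    rcases Nat.even_or_odd (Nat.card H) with he' | ho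
    · have := Nat.dvd_gcd he.two_dvd he'.two_dvd
      rw [h] at this
      omega
    · exact ho
  · exact Or.inl (CfsgLib.OddLocal.FTFinal.odd_order_solvable ho)

theorem map_fixed {X : Type u} {Y : Type*} [Group X] [Finite X] [Group Y] (f : X →* Y) {A H : Subgroup X}
    (hAn : A ≤ normalizer (H : Set X)) (hcop : (Nat.card A).Coprime (Nat.card H)) :
    H.map f ⊓ centralizer (A.map f : Set Y) ≤ (H ⊓ centralizer (A : Set X)).map f := by
  rintro _ ⟨⟨h, hh, rfl⟩, hc⟩
  have hN : A ≤ normalizer ((H ⊓ f.ker : Subgroup X) : Set X) :=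
    le_trans (le_inf hAn le_normalizer_of_normal) inf_normalizer_le_normalizer_inf
  obtain ⟨n, hn, hfix⟩ := CfsgLib.Core.exists_centralizing_in_coset (k := h) hN
    (hcop.coprime_dvd_right (card_dvd_of_le inf_le_left))
    ((solvable_or hcop).imp id fun hs => CfsgLib.Core.isSolvable_of_le hs inf_le_left)
    (fun a ha => ⟨H.mul_mem (H.inv_mem hh) ((mem_normalizer_iff.1 (hAn ha) _).1 hh), by
      show _ ∈ f.ker
      rw [MonoidHom.mem_ker, map_mul, map_mul, map_mul, map_inv, map_inv,
        mem_centralizer_iff.1 hc (f a) (mem_map_of_mem f ha), mul_assoc, mul_inv_cancel, mul_one, inv_mul_cancel]⟩)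
  exact ⟨h * n, ⟨H.mul_mem hh hn.1, hfix⟩, by rw [map_mul, MonoidHom.mem_ker.1 hn.2, mul_one]⟩

theorem normalizer_le_pCore_map {X : Type*} [Group X] (N : Subgroup X) :
    normalizer (N : Set X) ≤ normalizer (((Cfsg.pCore p N).map N.subtype : Subgroup X) : Set X) := by
  intro g hg
  rw [mem_normalizer_iff_map_conj_eq] at hg ⊢
  let e : N ≃* N := (N.equivMapOfInjective (MulAut.conj g).toMonoidHom (MulAut.conj g).injective).trans
    (MulEquiv.subgroupCongr hg)
  show Subgroup.map (MulAut.conj g).toMonoidHom ((Cfsg.pCore p N).map N.subtype) = _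
  rw [Subgroup.map_map, show (MulAut.conj g).toMonoidHom.comp N.subtype = N.subtype.comp e.toMonoidHom from
      MonoidHom.ext fun _ => rfl, ← Subgroup.map_map, Subgroup.characteristic_iff_map_eq.1 inferInstance e]

theorem le_pCore_map {X : Type*} [Group X] {N M : Subgroup X} (hle : M ≤ N)
    (hn : N ≤ normalizer (M : Set X)) (hM : IsPGroup p M) : M ≤ (Cfsg.pCore p N).map N.subtype := by
  haveI : (M.subgroupOf N).Normal := (normal_subgroupOf_iff_le_normalizer hle).2 hn
  have := map_mono (f := N.subtype) (CfsgLib.Core.le_pCore (p := p) (N := M.subgroupOf N)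
    (hM.of_equiv (subgroupOfEquivOfLe hle).symm))
  rwa [map_subgroupOf_eq_of_le hle] at this

theorem NoCore.normal {V : Type} [AddCommGroup V] [Module (ZMod p) V]
    [Finite (LinearMap.GeneralLinearGroup (ZMod p) V)]
    {H N : Subgroup (LinearMap.GeneralLinearGroup (ZMod p) V)} (hcore : NoCore H) (hNH : N ≤ H)
    (hn : H ≤ normalizer (N : Set (LinearMap.GeneralLinearGroup (ZMod p) V))) : NoCore N := by
  intro M hM hMn hMp
  have hbot := hcore _ ((map_subtype_le (Cfsg.pCore p N)).trans hNH) (hn.trans (normalizer_le_pCore_map (p := p) N))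
    ((Components.pCore_isPGroup (G := ↥N) (p := p)).map _)
  exact le_bot_iff.1 ((le_pCore_map hM hMn hMp).trans hbot.le)

/-- The product over an orbit of pairwise commuting conjugates. -/
theorem hasPSL_of_orbit {X : Type*} [Group X] [Finite X] (hp5 : 5 ≤ p) {A H M : Subgroup X}
    (hMH : M ≤ H) (hAn : A ≤ normalizer (H : Set X))
    (hcomm : ∀ a ∈ A, ∀ b ∈ A, M.map (MulAut.conj a).toMonoidHom ≠ M.map (MulAut.conj b).toMonoidHom →
      ∀ x ∈ M, ∀ y ∈ M, a * x * a⁻¹ * (b * y * b⁻¹) = b * y * b⁻¹ * (a * x * a⁻¹))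
    (h : HasPSL p (M ⊓ centralizer ((A ⊓ normalizer (M : Set X) : Subgroup X) : Set X))) :
    HasPSL p (H ⊓ centralizer (A : Set X)) := by
  classical
  obtain ⟨K, π, hK, hπ⟩ := h
  let φ : A → Subgroup X := fun a => M.map (MulAut.conj (a : X)).toMonoidHom
  haveI : Fintype (Set.range φ) := Fintype.ofFinite _
  choose rep hrep using fun i : Set.range φ => i.2
  let ψ : ∀ _ : Set.range φ, K →* X := fun i => (MulAut.conj (rep i : X)).toMonoidHom.comp K.subtype
  have hc : Pairwise fun i j => ∀ x y, Commute (ψ i x) (ψ j y) := by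
    intro i j hij x y
    refine hcomm _ (rep i).2 _ (rep j).2 (fun e => hij (Subtype.ext ?_)) _ (hK x.2).1 _ (hK y.2).1
    rw [← hrep i, ← hrep j]; exact e
  let Ψ : K →* X := (MonoidHom.noncommPiCoprod ψ hc).comp
    { toFun := fun k _ => k, map_one' := rfl, map_mul' := fun _ _ => rfl }
  have hΨ : ∀ k, Ψ k = Finset.univ.noncommProd (fun i => ψ i k) (fun i _ j _ hij => hc hij k k) := fun k =>
    MonoidHom.noncommPiCoprod_apply (hcomm := hc) _ _
  -- a representative only matters up to the stabiliser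
  have hindep : ∀ (a b : A) (k : K), φ a = φ b →
      (a : X) * k * (a : X)⁻¹ = (b : X) * k * (b : X)⁻¹ := by
    intro a b k e
    have hN : (b : X)⁻¹ * a ∈ A ⊓ normalizer (M : Set X) := by
      refine ⟨A.mul_mem (A.inv_mem b.2) a.2, ?_⟩
      show (b : X)⁻¹ * a ∈ normalizer (M : Set X)
      rw [mem_normalizer_iff_map_conj_eq]
      show M.map (MulAut.conj ((b : X)⁻¹ * a)).toMonoidHom = M
      have e' := congrArg (Subgroup.map (MulAut.conj (b : X)⁻¹).toMonoidHom) e
      simp only [φ, Subgroup.map_map] at e'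
      convert e' using 1
      · congr 1; ext x; simp [mul_assoc]
      · rw [show (MulAut.conj (b : X)⁻¹).toMonoidHom.comp (MulAut.conj (b : X)).toMonoidHom = MonoidHom.id X from
          MonoidHom.ext fun x => by simp [mul_assoc], Subgroup.map_id]
    have := mem_centralizer_iff.1 (hK k.2).2 _ hN
    calc (a : X) * k * (a : X)⁻¹ = b * (((b : X)⁻¹ * a) * k) * (a : X)⁻¹ := by group
      _ = b * (k * ((b : X)⁻¹ * a)) * (a : X)⁻¹ := by rw [this]
      _ = _ := by group
  refine hasPSL_of_hom Ψ π hπ ?_ ?_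
  · intro k hk
    rw [MonoidHom.mem_ker, hΨ] at hk
    let i₀ : Set.range φ := ⟨φ 1, ⟨1, rfl⟩⟩
    have h0 : ψ i₀ k = (k : X) := by
      show (rep i₀ : X) * k * (rep i₀ : X)⁻¹ = k
      rw [hindep (rep i₀) 1 k (hrep i₀)]; simp
    have hk' : ∀ y : K, (k : X) * y = y * k := by
      intro y
      have h1 := Finset.mul_noncommProd_erase Finset.univ (Finset.mem_univ i₀) (fun i => ψ i k)
        (fun i _ j _ hij => hc hij k k)
      replace hk := h1.trans hk
      rw [h0] at hk
      have hz : Commute (y : X) (Finset.noncommProd (Finset.univ.erase i₀) (fun i => ψ i k)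
          (fun i _ j _ hij => hc hij k k)) := by
        refine Finset.noncommProd_induction _ _ _ (fun z => Commute (y : X) z)
          (fun a b ha hb => ha.mul_right hb) (Commute.one_right _) fun j hj => ?_
        have := hc (Ne.symm (Finset.ne_of_mem_erase hj)) y k
        rwa [show ψ i₀ y = (y : X) from by
          show (rep i₀ : X) * y * (rep i₀ : X)⁻¹ = y
          rw [hindep (rep i₀) 1 y (hrep i₀)]; simp] at this
      rw [eq_inv_of_mul_eq_one_left hk]
      exact (hz.inv_right).eq.symm
    have hcen : π k ∈ Subgroup.center _ := by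
      rw [Subgroup.mem_center_iff]
      intro z
      obtain ⟨y, rfl⟩ := hπ z
      rw [← map_mul, ← map_mul, show y * k = k * y from Subtype.ext (hk' y).symm]
    rwa [psl_center_trivial hp5, mem_bot] at hcen
  · rintro _ ⟨k, rfl⟩
    refine ⟨?_, ?_⟩
    · rw [hΨ]
      exact H.noncommProd_mem _ fun i _ => (mem_normalizer_iff.1 (hAn (rep i).2) _).1 (hMH (hK k.2).1)
    · show Ψ k ∈ centralizer (A : Set X)
      rw [mem_centralizer_iff]
      intro a ha
      let τ : Set.range φ → Set.range φ := fun i => ⟨φ (⟨a, ha⟩ * rep i), _, rfl⟩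
      have hmul : ∀ b : A, φ (⟨a, ha⟩ * b) = (φ b).map (MulAut.conj a).toMonoidHom := fun b => by
        show M.map _ = (M.map _).map _
        rw [Subgroup.map_map]
        congr 1
        ext x
        simp [mul_assoc]
      have hτinj : Function.Injective τ := by
        intro i j e
        have e' : φ (⟨a, ha⟩ * rep i) = φ (⟨a, ha⟩ * rep j) := congrArg Subtype.val e
        rw [hmul, hmul, hrep, hrep] at e'
        exact Subtype.ext (Subgroup.map_injective (MulAut.conj a).injective e')
      have hτ : ∀ i, a * ψ i k * a⁻¹ = ψ (τ i) k := by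
        intro i
        show a * ((rep i : X) * k * (rep i : X)⁻¹) * a⁻¹ = (rep (τ i) : X) * k * (rep (τ i) : X)⁻¹
        rw [← hindep (⟨a, ha⟩ * rep i) (rep (τ i)) k (hrep (τ i)).symm, Subgroup.coe_mul]
        group
      have key : a * Ψ k * a⁻¹ = Ψ k := by
        rw [hΨ, show a * Finset.univ.noncommProd (fun i => ψ i k) (fun i _ j _ hij => hc hij k k) * a⁻¹ =
            (MulAut.conj a).toMonoidHom (Finset.univ.noncommProd (fun i => ψ i k) (fun i _ j _ hij => hc hij k k)) from rfl]
        refine (Finset.map_noncommProd _ _ _ _).trans ?_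
        unfold Finset.noncommProd
        congr 1
        have hperm : Multiset.map τ (Finset.univ : Finset (Set.range φ)).1 = Finset.univ.1 :=
          congrArg Finset.val (Finset.map_univ_equiv (Equiv.ofBijective τ (Finite.injective_iff_bijective.1 hτinj)))
        conv_rhs => rw [← hperm, Multiset.map_map]
        refine Multiset.map_congr rfl fun i _ => ?_
        exact hτ i
      calc a * Ψ k = a * Ψ k * a⁻¹ * a := by group
        _ = Ψ k * a := by rw [key]

end CfsgLib.PLocal.ZJCoprime
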