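import Cfsg.Agent.Lib.PLocal.ZJ

/-!
# Glauberman's ZJ theorem from stability on characteristic subgroups
-/

set_option autoImplicit false

namespace CfsgLib.PLocal

open Subgroup Cfsg CfsgLib.Core
open scoped commutatorElement

variable {G : Type*} [Group G] {p : ℕ} {Pr : Subgroup G → Prop}

/-- stability on characteristic `p`-subgroups -/
def StableAtChar (p : ℕ) (S : Subgroup G) : Prop :=
  ∀ (P : Subgroup G) [P.Characteristic], IsPGroup p P → ∀ a ∈ S,
    ⁅⁅P, zpowers a⁆, zpowers a⁆ = ⊥ →
      (QuotientGroup.mk a : G ⧸ centralizer (P : Set G)) ∈ pCore p (G ⧸ centralizer (P : Set G))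

theorem characteristic_normalClosure_inf_zCore [Finite G] [Fact p.Prime] (hP : GoodPred p Pr)
    (S : Sylow p G) (B : Subgroup G) [B.Characteristic] :
    (normalClosure ((B ⊓ zCore Pr (S : Subgroup G) : Subgroup G) : Set G)).Characteristic := by
  set X := B ⊓ zCore Pr (S : Subgroup G) with hX
  rw [characteristic_iff_map_eq]
  intro φ
  have hsurj : Function.Surjective φ.toMonoidHom := φ.surjective
  obtain ⟨g, hg⟩ := MulAction.exists_smul_eq G S (S.mapSurjective hsurj)
  have hS' : (S : Subgroup G).map φ.toMonoidHom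
      = (S : Subgroup G).map (MulAut.conj g).toMonoidHom := by
    rw [← Sylow.coe_mapSurjective hsurj, ← hg]
    rfl
  have hXφ : X.map φ.toMonoidHom = X.map (MulAut.conj g).toMonoidHom := by
    rw [hX, map_inf _ _ _ φ.injective, map_inf _ _ _ (MulAut.conj g).injective]
    congr 1
    · rw [characteristic_iff_map_eq.1 inferInstance φ, characteristic_iff_map_eq.1 inferInstance (MulAut.conj g)]
    · rw [map_zCore hP φ, map_zCore hP (MulAut.conj g), hS']
  have h1 := map_normalClosure (X : Set G) φ.toMonoidHom hsurj
  have h2 := map_normalClosure (X : Set G) (MulAut.conj g).toMonoidHom (MulAut.conj g).surjective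
  rw [h1, ← coe_map, hXφ, coe_map, ← h2]
  have hn : (normalClosure (X : Set G)).Normal := normalClosure_normal
  refine le_antisymm ?_ fun y hy => ⟨g⁻¹ * y * g, by simpa using hn.conj_mem y hy g⁻¹, by simp [mul_assoc]⟩
  rintro _ ⟨y, hy, rfl⟩
  exact hn.conj_mem y hy g

/-- Glauberman: `B ∩ Z` is normal for every normal `p`-subgroup `B`. -/
theorem inf_zCore_normal_char [Finite G] [Fact p.Prime] (hp : p ≠ 2) (hP : GoodPred p Pr)
    (S : Sylow p G) (hst : StableAtChar p (S : Subgroup G)) :
    ∀ B : Subgroup G, B.Characteristic → IsPGroup p B → (B ⊓ zCore Pr (S : Subgroup G)).Normal := by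
  set S₀ := (S : Subgroup G) with hS₀
  set Z := zCore Pr S₀ with hZ
  intro B
  induction hn : Nat.card B using Nat.strong_induction_on generalizing B with
  | _ n ih =>
    intro hBc hBp
    haveI := hBc
    have hB : B.Normal := inferInstance
    have hBS : B ≤ S₀ := hBp.le_sylow_of_normal S
    have hSB : S₀ ≤ normalizer (B : Set G) := le_normalizer_of_normal
    have hSZ : S₀ ≤ normalizer (Z : Set G) :=
      le_normalizer.trans (normalizer_le_normalizer_zCore hP S₀)
    set X := B ⊓ Z with hX
    have hXZ : X ≤ Z := inf_le_right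
    -- reduce to `B` generated by the conjugates of `X`
    set B₁ := normalClosure (X : Set G) with hB₁
    have hB₁n : B₁.Normal := normalClosure_normal
    have hchar : B₁.Characteristic := characteristic_normalClosure_inf_zCore hP S B
    have hB₁B : B₁ ≤ B := normalClosure_le_normal (SetLike.coe_subset_coe.2 inf_le_left)
    have hXB₁ : X ≤ B₁ := fun x hx => subset_normalClosure hx
    rcases hB₁B.lt_or_eq with hlt | hBeq
    · have := ih _ (hn ▸ Set.Finite.card_lt_card (Set.toFinite _) (SetLike.coe_ssubset_coe.2 hlt))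
        B₁ rfl (hchar) (hBp.to_le hB₁B)
      have heq : B₁ ⊓ Z = X := le_antisymm (inf_le_inf_right _ hB₁B) (le_inf hXB₁ hXZ)
      rwa [heq] at this
    -- the derived subgroup
    rcases eq_or_ne B ⊥ with hbot | hbot
    · have : X = ⊥ := by rw [hX, hbot]; simp
      rw [this]; exact normal_bot
    haveI : Nontrivial B := nontrivial_iff_ne_bot _ |>.2 hbot
    haveI := hBp.isNilpotent
    have hB'lt : ⁅B, B⁆ < B := by
      refine lt_of_le_of_ne (commutator_le_self B) fun h => ?_
      have hm : (_root_.commutator B).map B.subtype = ⁅B, B⁆ := map_subtype_commutator B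
      have h1 : _root_.commutator B = ⊤ := by
        refine map_injective B.subtype_injective ?_
        rw [hm, h, ← MonoidHom.range_eq_map, range_subtype]
      exact (Group.IsSolvable.commutator_lt_top_of_nontrivial B).ne h1
    have hY : (⁅B, B⁆ ⊓ Z).Normal := ih _
      (hn ▸ Set.Finite.card_lt_card (Set.toFinite _) (SetLike.coe_ssubset_coe.2 hB'lt))
      _ rfl (Subgroup.commutator_characteristic B B) (hBp.to_le hB'lt.le)
    set Y := ⁅B, B⁆ ⊓ Z with hYdef
    have hB'Z : ⁅B, B⁆ ≤ Z := by
      set π := QuotientGroup.mk' Y with hπ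
      set K := (centralizer ((B.map π : Subgroup (G ⧸ Y)) : Set (G ⧸ Y))).comap π with hK
      have hBn : (B.map π).Normal := hB.map π (QuotientGroup.mk'_surjective _)
      have hXK : X ≤ K := by
        intro x hx
        rw [hK, mem_comap, mem_centralizer_iff]
        rintro _ ⟨b, hb, rfl⟩
        rw [← map_mul, ← map_mul, ← mul_inv_eq_one, ← map_inv, ← map_mul]
        refine (QuotientGroup.eq_one_iff _).2 ?_
        have e : b * x * (x * b)⁻¹ = ⁅b, x⁆ := by rw [commutatorElement_def]; group
        rw [e]
        exact ⟨commutator_mem_commutator hb hx.1,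
          Z.mul_mem (conj_mem (hBS.trans hSZ) hb hx.2) (Z.inv_mem hx.2)⟩
      have hBK : B ≤ K := hBeq ▸ normalClosure_le_normal (SetLike.coe_subset_coe.2 hXK)
      refine le_trans ?_ (inf_le_right : Y ≤ Z)
      refine commutator_le.2 fun a ha b hb => (QuotientGroup.eq_one_iff _).1 ?_
      show π ⁅a, b⁆ = 1
      rw [map_commutatorElement, commutatorElement_eq_one_iff_mul_comm]
      exact mem_centralizer_iff.1 (hBK hb) _ ⟨a, ha, rfl⟩
    -- `L`
    set L := (normalizer (X : Set G)).normalCore with hL
    have hLX : L ≤ normalizer (X : Set G) := normalCore_le _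
    have hLn : L.Normal := normalCore_normal _
    set T := S₀ ⊓ L with hT
    have hnd : ¬ p ∣ S₀.relIndex L := fun hd =>
      S.not_dvd_index (hd.trans (CfsgLib.HallGen.relIndex_dvd_index_right _ _))
    let T' : Sylow p L := (S.2.comap_subtype).toSylow hnd
    have hT' : (T' : Subgroup L).map L.subtype = T := subgroupOf_map_subtype _ _
    have hfr : normalizer (T : Set G) ⊔ L = ⊤ := hT' ▸ Sylow.normalizer_sup_eq_top T'
    have hXn : normalizer (X : Set G) = ⊤ → X.Normal := normalizer_eq_top_iff.1
    by_cases hall : ∀ A, IsMaxIn Pr S₀ A → A ≤ L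
    · obtain ⟨A, hA⟩ := exists_maxIn hP S₀
      have heq : zCore Pr T = Z :=
        zCore_eq_of_forall inf_le_left hA fun B hB => le_inf hB.1 (hall B hB)
      refine hXn (eq_top_iff.2 (hfr ▸ sup_le ?_ hLX))
      refine le_trans ?_ inf_normalizer_le_normalizer_inf
      refine le_inf le_normalizer_of_normal ?_
      rw [← heq]
      exact normalizer_le_normalizer_zCore hP T
    · exfalso
      push Not at hall
      obtain ⟨A₁, hA₁, hA₁L⟩ := hall
      have hQ : ∀ A A', IsMaxIn Pr S₀ A → ¬ A ≤ L → IsMaxIn Pr S₀ A' → ⁅B, B⁆ ≤ A' →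
          A' ⊓ B < B → ¬ A' ≤ L := by
        intro A A' _ _ hA' _ hlt hA'L
        have hA'T : IsMaxIn Pr T A' :=
          ⟨le_inf hA'.1 hA'L, hA'.2.1, fun C h1 h2 => hA'.2.2 C (h1.trans inf_le_left) h2⟩
        have hZT : Z ≤ zCore Pr T := zCore_mono_of_max inf_le_left hA' (le_inf hA'.1 hA'L)
        have hBle : B ≤ A' := by
          refine le_trans ?_ (zCore_le_of_max hA'T)
          rw [← hBeq, hB₁, normalClosure, Subgroup.closure_le]
          intro y hy
          obtain ⟨x, hx, hxy⟩ := Group.mem_conjugatesOfSet_iff.1 hy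
          obtain ⟨g, rfl⟩ := isConj_iff.1 hxy
          have hg : g ∈ normalizer (T : Set G) ⊔ L := hfr.symm ▸ mem_top g
          rw [← SetLike.mem_coe,
            coe_mul_of_left_le_normalizer_right _ L le_normalizer_of_normal] at hg
          obtain ⟨m, hm, l, hl, rfl⟩ := hg
          have h1 : l * x * l⁻¹ ∈ X := conj_mem hLX hl hx
          have h2 := conj_mem (le_refl _) (normalizer_le_normalizer_zCore hP T hm) (hZT h1.2)
          show m * l * x * (m * l)⁻¹ ∈ zCore Pr T
          convert h2 using 1
          group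
        exact hlt.ne (inf_eq_right.2 hBle)
      obtain ⟨A, hA, hAL, _, hBA⟩ := exists_max_normalized hp hP S.2 hBS hSB le_rfl le_normalizer
        (fun A => ¬ A ≤ L) hQ ⟨A₁, hA₁, hA₁L, hB'Z.trans (zCore_le_of_max hA₁)⟩
      apply hAL
      -- `A` acts quadratically on `B`
      set C := centralizer (B : Set G) with hC
      set K := (pCore p (G ⧸ C)).comap (QuotientGroup.mk' C) with hK
      have hAK : A ≤ K := by
        intro a ha
        refine hst B hBp a (hA.1 ha) ?_
        refine eq_bot_iff.2 ((commutator_mono (commutator_mono le_rfl (zpowers_le.2 ha))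
          (zpowers_le.2 ha)).trans ?_)
        refine (commutator_mono (le_normalizer_iff_commutator_le_right.1 hBA) le_rfl).trans ?_
        exact ((commutator_self_eq_bot_iff (H := A)).2 (hP.comm hA.2.1)).le
      refine hAK.trans ?_
      have hKX : K ≤ normalizer (X : Set G) := by
        obtain ⟨k, hk⟩ := IsPGroup.iff_card.1 (isPGroup_pCore p (G ⧸ C))
        have hidx : C.relIndex K = p ^ k := by
          have h := relIndex_ker (QuotientGroup.mk' C) (K := K)
          rw [QuotientGroup.ker_mk', hK,
            map_comap_eq_self_of_surjective (QuotientGroup.mk'_surjective _)] at h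
          rw [hK, h, hk]
        have hCK : C ≤ K := le_of_eq_of_le (QuotientGroup.ker_mk' _).symm (ker_le_comap _ _)
        rw [← pGroup_mod_eq_sup hCK ⟨k, hidx⟩ S]
        refine sup_le (inf_le_left.trans ?_) ?_
        · exact le_trans (le_inf le_normalizer_of_normal hSZ) inf_normalizer_le_normalizer_inf
        · exact le_trans (centralizer_le (SetLike.coe_subset_coe.2 inf_le_left))
            (centralizer_le_normalizer _)
      exact normal_le_normalCore.2 hKX

/-- Glauberman's ZJ theorem. -/
theorem zCore_characteristic_char [Finite G] [Fact p.Prime] (hp : p ≠ 2) (hP : GoodPred p Pr)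
    (hc : centralizer (pCore p G : Set G) ≤ pCore p G) (S : Sylow p G)
    (hst : StableAtChar p (S : Subgroup G)) :
    (zCore Pr (S : Subgroup G)).Characteristic := by
  set Z := zCore Pr (S : Subgroup G) with hZ
  set P := pCore p G with hPdef
  have hPS : P ≤ (S : Subgroup G) := pCore_le_sylow S
  have hSZ : (S : Subgroup G) ≤ normalizer (Z : Set G) :=
    le_normalizer.trans (normalizer_le_normalizer_zCore hP _)
  have hZP : Z ≤ P := by
    intro a ha
    have hq : ⁅⁅P, zpowers a⁆, zpowers a⁆ = ⊥ := by
      refine eq_bot_iff.2 ((commutator_mono (commutator_mono le_rfl (zpowers_le.2 ha))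
        (zpowers_le.2 ha)).trans ?_)
      refine (commutator_mono (le_normalizer_iff_commutator_le_right.1 (hPS.trans hSZ)) le_rfl).trans ?_
      rw [le_bot_iff, commutator_self_eq_bot_iff]
      exact le_centralizer_iff_isMulCommutative.1 fun x hx => mem_centralizer_iff.2 fun y hy =>
        zCore_comm hP _ hy hx
    have hm := hst P (isPGroup_pCore p G) a (zCore_le hP _ ha) hq
    have hKp : IsPGroup p ↥((pCore p (G ⧸ centralizer (P : Set G))).comap
        (QuotientGroup.mk' (centralizer (P : Set G)))) :=
      (isPGroup_pCore p _).comap_of_ker_isPGroup _ (by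
        rw [QuotientGroup.ker_mk']; exact (isPGroup_pCore p G).to_le hc)
    exact le_pCore hKp hm
  have hnZ : Z.Normal := by
    have := inf_zCore_normal_char hp hP S hst P inferInstance (isPGroup_pCore p G)
    rwa [inf_eq_right.2 hZP] at this
  rw [characteristic_iff_map_eq]
  intro φ
  rw [hZ, map_zCore hP φ]
  have hsurj : Function.Surjective φ.toMonoidHom := φ.surjective
  obtain ⟨g, hg⟩ := MulAction.exists_smul_eq G S (S.mapSurjective hsurj)
  have hS' : (S : Subgroup G).map φ.toMonoidHom
      = (S : Subgroup G).map (MulAut.conj g).toMonoidHom := by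
    rw [← Sylow.coe_mapSurjective hsurj, ← hg]
    rfl
  rw [hS', ← map_zCore hP]
  have hgN : g ∈ normalizer (Z : Set G) := by rw [normalizer_eq_top_iff.2 hnZ]; trivial
  exact mem_normalizer_iff_map_conj_eq.1 hgN

end CfsgLib.PLocal
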