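import Cfsg.Agent.Lib.PLocal.ZJCoprime.Auto
import Cfsg.Agent.Lib.PLocal.ZJCoprime.StableChar
import Cfsg.Agent.Lib.Core.Coprime

/-!
# Stability on characteristic subgroups from the absence of `PSL(2, p)` in the fixed points
-/

set_option autoImplicit false

namespace CfsgLib.PLocal.ZJCoprime

open Cfsg CfsgLib.QuadPair Subgroup Matrix
open scoped commutatorElement

universe u

variable {p : ℕ} [Fact p.Prime]

theorem apply_mem_char {G : Type u} [Group G] {B : Subgroup G} [B.Characteristic] (φ : MulAut G) {b : G}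
    (hb : b ∈ B) : φ b ∈ B :=
  (characteristic_iff_map_eq.1 ‹B.Characteristic› φ).le ⟨b, hb, rfl⟩

theorem exists_coords_aux {Q : Type u} [AddCommGroup Q] [Module (ZMod p) Q] [Finite Q] :
    ∃ n : ℕ, Nonempty (Q ≃+ (Fin n → ZMod p)) := by
  haveI : Module.Finite (ZMod p) Q := Module.Finite.of_finite
  exact ⟨_, ⟨(Module.finBasis (ZMod p) Q).equivFun.toAddEquiv⟩⟩

theorem exists_coords {Q : Type u} [AddCommGroup Q] [Finite Q] (h : ∀ x : Q, p • x = 0) :
    ∃ n : ℕ, Nonempty (Q ≃+ (Fin n → ZMod p)) :=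
  @exists_coords_aux p _ Q _ (AddCommGroup.zmodModule h) _

/-- The action of the automorphisms on the Frattini quotient of a characteristic `p`-subgroup. -/
theorem frattini_rep {G : Type u} [Group G] [Finite G] (B : Subgroup G) [B.Characteristic] (hB : IsPGroup p B) :
    ∃ (n : ℕ) (Θ : MulAut G →* LinearMap.GeneralLinearGroup (ZMod p) (Fin n → ZMod p))
      (π : B →* Multiplicative (Fin n → ZMod p)), Function.Surjective π ∧ π.ker = frattini B ∧
      ∀ (φ : MulAut G) (b : B), (Θ φ : Module.End (ZMod p) (Fin n → ZMod p)) (π b).toAdd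
        = (π ⟨φ b, apply_mem_char φ b.2⟩).toAdd := by
  classical
  obtain ⟨hc, hpow⟩ := CfsgLib.PGroups.frattini_quotient hB
  letI : CommGroup (B ⧸ frattini B) :=
    { (inferInstance : Group (B ⧸ frattini B)) with mul_comm := fun a b => hc.is_comm.comm a b }
  obtain ⟨n, ⟨e⟩⟩ := exists_coords (p := p) (Q := Additive (B ⧸ frattini B)) (fun x => by
      apply Additive.toMul.injective
      exact hpow x.toMul)
  let π : B →* Multiplicative (Fin n → ZMod p) :=
    MonoidHom.mk' (fun b => Multiplicative.ofAdd (e (Additive.ofMul (QuotientGroup.mk b : B ⧸ frattini B))))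
      (fun a b => by rw [QuotientGroup.mk_mul, ofMul_mul, map_add, ofAdd_add])
  have hπ : Function.Surjective π := fun v => by
    obtain ⟨b, hb⟩ := QuotientGroup.mk_surjective (Additive.toMul (e.symm v.toAdd))
    refine ⟨b, ?_⟩
    show Multiplicative.ofAdd (e (Additive.ofMul (QuotientGroup.mk b))) = v
    rw [hb, ofMul_toMul, e.apply_symm_apply, ofAdd_toAdd]
  have hker : π.ker = frattini B := by
    ext b
    rw [MonoidHom.mem_ker, ← QuotientGroup.eq_one_iff]
    show Multiplicative.ofAdd (e _) = 1 ↔ _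
    rw [ofAdd_eq_one, EmbeddingLike.map_eq_zero_iff, ofMul_eq_zero]
  let rB : MulAut G → (B →* B) := fun φ =>
    (φ.toMonoidHom.comp B.subtype).codRestrict B fun b => apply_mem_char φ b.2
  have hrB : ∀ φ, Function.Bijective (rB φ) := fun φ =>
    ⟨fun a b h => Subtype.ext (φ.injective (congrArg Subtype.val h)),
      fun b => ⟨⟨φ.symm b, apply_mem_char φ.symm b.2⟩, Subtype.ext (φ.apply_symm_apply b)⟩⟩
  have hfr : ∀ φ, π.ker ≤ (π.comp (rB φ)).ker := fun φ b hb => by
    rw [hker] at hb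
    have h1 := (characteristic_iff_map_eq.1 (inferInstance : (frattini B).Characteristic)
      (MulEquiv.ofBijective (rB φ) (hrB φ))).le ⟨b, hb, rfl⟩
    rw [← hker] at h1
    exact h1
  let L : MulAut G → Module.End (ZMod p) (Fin n → ZMod p) :=
    fun φ => AddMonoidHom.toZModLinearMap p
      (MonoidHom.toAdditiveLeft (α := Multiplicative (Fin n → ZMod p)) (MonoidHom.liftOfSurjective π hπ ⟨π.comp (rB φ), hfr φ⟩) : Additive (Multiplicative (Fin n → ZMod p)) →+ (Fin n → ZMod p))
  have hL : ∀ φ (b : B), L φ (π b).toAdd = (π (rB φ b)).toAdd := fun φ b =>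
    congrArg Multiplicative.toAdd (MonoidHom.liftOfRightInverse_comp_apply π _ _ ⟨π.comp (rB φ), hfr φ⟩ b)
  have hext : ∀ {f g : Module.End (ZMod p) (Fin n → ZMod p)},
      (∀ b, f (π b).toAdd = g (π b).toAdd) → f = g := fun h => LinearMap.ext fun v => by
    obtain ⟨b, hb⟩ := hπ (Multiplicative.ofAdd v)
    have := h b
    rwa [hb] at this
  let f : MulAut G →* Module.End (ZMod p) (Fin n → ZMod p) :=
    { toFun := L
      map_one' := hext fun b => by rw [hL]; rfl
      map_mul' := fun φ ψ => hext fun b => by rw [hL, Module.End.mul_apply, hL, hL]; rfl }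
  exact ⟨_, f.toHomUnits, π, hπ, hker, fun φ b => hL φ b⟩

/-- No `PSL(2, p)` in the fixed points of a coprime automorphism group gives stability on
characteristic subgroups. -/
theorem stableAtChar_of_fixed (hp5 : 5 ≤ p) {G : Type u} [Group G] [Finite G] {A : Subgroup (MulAut G)}
    (hA : (Nat.card A).Coprime (Nat.card G)) {C : Subgroup G} (hC : ∀ g : G, g ∈ C ↔ ∀ a ∈ A, a g = g)
    (hno : ¬ HasPSL p C) (S : Subgroup G) : StableAtChar p S := by
  intro B hBc hBp x _ hq
  classical
  by_contra hnot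
  obtain ⟨n, Θ, π, hπ, hker, hΘ⟩ := frattini_rep B hBp
  set V := Fin n → ZMod p with hV
  set ρ := Θ.comp (MulAut.conj : G →* MulAut G) with hρdef
  have hρ : ∀ (g : G) (b : B), (ρ g : Module.End (ZMod p) V) (π b).toAdd
      = (π ⟨g * b * g⁻¹, apply_mem_char (MulAut.conj g) b.2⟩).toAdd := fun g b => hΘ _ b
  -- `x` acts quadratically
  set ξ : Module.End (ZMod p) V := (ρ x : Module.End (ZMod p) V) - 1 with hξ
  have hcB : ∀ b : B, ⁅x, (b : G)⁆ ∈ B := fun b => by
    rw [commutatorElement_def]; exact B.mul_mem (apply_mem_char (MulAut.conj x) b.2) (B.inv_mem b.2)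
  have hξb : ∀ b : B, ξ (π b).toAdd = (π ⟨⁅x, (b : G)⁆, hcB b⟩).toAdd := fun b => by
    rw [hξ, LinearMap.sub_apply, Module.End.one_apply, hρ, sub_eq_iff_eq_add, ← toAdd_mul, ← map_mul]
    exact congrArg (fun c => (π c).toAdd) (Subtype.ext (by simp [commutatorElement_def]))
  have hξξ : ξ * ξ = 0 := LinearMap.ext fun v => by
    obtain ⟨b, hb⟩ := hπ (Multiplicative.ofAdd v)
    have h0 : ⁅x, ⁅x, (b : G)⁆⁆ = 1 := by
      have hm : ⁅x, ⁅x, (b : G)⁆⁆ ∈ ⁅zpowers x, ⁅zpowers x, B⁆⁆ :=
        commutator_mem_commutator (mem_zpowers x) (commutator_mem_commutator (mem_zpowers x) b.2)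
      rwa [commutator_comm (zpowers x) B, commutator_comm, hq, mem_bot] at hm
    have h1 : v = (π b).toAdd := by rw [hb]; rfl
    rw [h1, Module.End.mul_apply, hξb, hξb, LinearMap.zero_apply]
    have : (⟨⁅x, ⁅x, (b : G)⁆⁆, hcB ⟨_, hcB b⟩⟩ : B) = 1 := Subtype.ext h0
    rw [this, map_one]; rfl
  have hexp : expU ξ = ρ x := Units.ext (by rw [expU_val hξξ, hξ, add_sub_cancel])
  have hxH : expU ξ ∈ ρ.range := ⟨x, hexp.symm⟩
  by_cases hmem : (⟨expU ξ, hxH⟩ : ρ.range) ∈ Cfsg.pCore p ρ.range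
  · apply hnot
    set D := (Cfsg.pCore p ρ.range).comap ρ.rangeRestrict with hD
    have hxD : x ∈ D := by
      rw [hD, mem_comap]
      convert hmem using 1
      exact Subtype.ext hexp.symm
    have hpow : ∀ d ∈ D, ∃ j, d ^ p ^ j ∈ centralizer (B : Set G) := by
      intro d hd
      obtain ⟨k, hk⟩ := (CfsgLib.Core.isPGroup_pCore p ρ.range) ⟨_, hd⟩
      set z := d ^ p ^ k with hz
      have hz1 : ρ z = 1 := by
        have := congrArg (fun w : ↥(Cfsg.pCore p ρ.range) =>
          ((w : ρ.range) : LinearMap.GeneralLinearGroup (ZMod p) V)) hk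
        simp only [SubgroupClass.coe_pow, OneMemClass.coe_one, MonoidHom.coe_rangeRestrict] at this
        rw [hz, map_pow, this]
      obtain ⟨e, m, hm, hem⟩ := Nat.exists_eq_pow_mul_and_not_dvd (orderOf_pos z).ne' p
        (Fact.out : p.Prime).ne_one
      refine ⟨k + e, ?_⟩
      rw [pow_add, pow_mul, ← hz]
      set y := z ^ p ^ e with hy
      have hyo : orderOf y = m := by
        rw [hy, orderOf_pow_of_dvd (pow_ne_zero _ (Fact.out : p.Prime).ne_zero) ⟨m, hem⟩, hem,
          Nat.mul_div_cancel_left _ (pow_pos (Fact.out : p.Prime).pos _)]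
      have hyK : zpowers y ≤ ρ.ker := zpowers_le.2 (by rw [MonoidHom.mem_ker, hy, map_pow, hz1, one_pow])
      have hcop : (Nat.card (zpowers y)).Coprime (Nat.card (frattini B)) := by
        obtain ⟨j, hj⟩ := IsPGroup.iff_card.1 (hBp.to_subgroup (frattini B))
        rw [Nat.card_zpowers, hyo, hj]
        exact (((Fact.out : p.Prime).coprime_iff_not_dvd.2 hm).symm).pow_right j
      have hnorm : zpowers y ≤ normalizer (B : Set G) := le_normalizer_of_normal
      have := CfsgLib.Core.centralizes_of_centralizes_frattini_quotient hnorm hcop (by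
        intro a ha b hb
        have h1 := hρ a ⟨b, hb⟩
        rw [MonoidHom.mem_ker.1 (hyK ha), Units.val_one, Module.End.one_apply] at h1
        have h2 : (⟨a * b * a⁻¹, apply_mem_char (MulAut.conj a) hb⟩ * (⟨b, hb⟩ : B)⁻¹ : B) ∈ frattini B := by
          rw [← hker, MonoidHom.mem_ker, map_mul, map_inv, mul_inv_eq_one]
          exact (Multiplicative.toAdd.injective h1).symm
        exact ⟨_, h2, rfl⟩)
      exact this (mem_zpowers y)
    have hDq : IsPGroup p (D.map (QuotientGroup.mk' (centralizer (B : Set G)))) := by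
      rintro ⟨_, d, hd, rfl⟩
      obtain ⟨j, hj⟩ := hpow d hd
      exact ⟨j, Subtype.ext ((QuotientGroup.eq_one_iff _).2 hj)⟩
    haveI : (D.map (QuotientGroup.mk' (centralizer (B : Set G)))).Normal :=
      Subgroup.Normal.map (Normal.comap inferInstance _) _ (QuotientGroup.mk'_surjective _)
    exact CfsgLib.Core.le_pCore hDq (mem_map_of_mem _ hxD)
  · apply hno
    have hconj : ∀ (φ : MulAut G) (g : G), ρ (φ g) = Θ φ * ρ g * (Θ φ)⁻¹ := fun φ g => by
      show Θ (MulAut.conj (φ g)) = Θ φ * Θ (MulAut.conj g) * (Θ φ)⁻¹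
      rw [← map_inv, ← map_mul, ← map_mul]
      congr 1
      ext y
      simp
    have hn : A.map Θ ≤ normalizer (ρ.range : Set (LinearMap.GeneralLinearGroup (ZMod p) V)) := by
      rintro _ ⟨φ, _, rfl⟩
      rw [mem_normalizer_iff]
      refine fun y => ⟨?_, ?_⟩
      · rintro ⟨g, rfl⟩
        exact ⟨φ g, hconj φ g⟩
      · rintro ⟨g, hg⟩
        refine ⟨φ⁻¹ g, ?_⟩
        rw [hconj, hg, map_inv]; group
    have hcop : (Nat.card (A.map Θ)).Coprime (Nat.card ρ.range) :=
      (hA.coprime_dvd_left (A.card_map_dvd Θ)).coprime_dvd_right (Subgroup.card_range_dvd ρ)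
    have hP := hasPSL_of_quadratic hp5 (n + 1) ρ.range (A.map Θ) (by simp) hn hcop ξ hξξ hxH hmem
    refine HasPSL.of_map ρ (hP.mono ?_)
    rintro _ ⟨⟨g, rfl⟩, hgc⟩
    have hfixq : ∀ a ∈ A, ρ (a g) = ρ g := fun a ha => by
      rw [hconj, mem_centralizer_iff.1 hgc (Θ a) ⟨a, ha, rfl⟩, mul_inv_cancel_right]
    obtain ⟨m, hm, hfix⟩ := lift_fixed hA (N := ρ.ker)
      (fun a ha m hm => by rw [MonoidHom.mem_ker] at hm ⊢; rw [hconj, hm, mul_one, mul_inv_cancel])
      (g := g) (fun a ha => by rw [MonoidHom.mem_ker, map_mul, map_inv, hfixq a ha, inv_mul_cancel])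
    exact ⟨g * m, (hC _).2 hfix, by rw [map_mul, MonoidHom.mem_ker.1 hm, mul_one]⟩

end CfsgLib.PLocal.ZJCoprime
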