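import Cfsg.Agent.Lib.PLocal.ZJCoprime.Induction
import Cfsg.Agent.Lib.PGroups.Basic
import Cfsg.Agent.Lib.Classical.Dickson.PSL
import Cfsg.Prelude.Def_LocalEven
import Mathlib.GroupTheory.SemidirectProduct

/-!
# Coprime automorphism groups: lifting fixed points, stability on characteristic subgroups
-/

set_option autoImplicit false

namespace CfsgLib.PLocal.ZJCoprime

open Cfsg CfsgLib.QuadPair Subgroup Matrix
open scoped commutatorElement

universe u

variable {p : ℕ} [Fact p.Prime]

/-- Fixed cosets of an invariant subgroup contain fixed points. -/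
theorem lift_fixed {G : Type u} [Group G] [Finite G] {A : Subgroup (MulAut G)}
    (hA : (Nat.card A).Coprime (Nat.card G)) {N : Subgroup G} (hN : ∀ a ∈ A, ∀ n ∈ N, a n ∈ N) {g : G}
    (hg : ∀ a ∈ A, g⁻¹ * a g ∈ N) : ∃ n ∈ N, ∀ a ∈ A, a (g * n) = g * n := by
  classical
  let φ : A →* MulAut G := A.subtype
  haveI : Finite (G ⋊[φ] A) := Finite.of_equiv _ SemidirectProduct.equivProd.symm
  set A0 : Subgroup (G ⋊[φ] A) := (SemidirectProduct.inr : A →* G ⋊[φ] A).range with hA0
  set N0 : Subgroup (G ⋊[φ] A) := N.map (SemidirectProduct.inl : G →* G ⋊[φ] A) with hN0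
  have hconj : ∀ (a : A) (n : G), (SemidirectProduct.inr a : G ⋊[φ] A) * SemidirectProduct.inl n *
      (SemidirectProduct.inr a : G ⋊[φ] A)⁻¹ = SemidirectProduct.inl ((a : MulAut G) n) := by
    intro a n
    rw [← map_inv, ← SemidirectProduct.inl_aut]
    rfl
  have hn : A0 ≤ normalizer (N0 : Set (G ⋊[φ] A)) := by
    rintro _ ⟨a, rfl⟩
    rw [mem_normalizer_iff]
    refine fun y => ⟨?_, ?_⟩
    · rintro ⟨n, hn, rfl⟩
      exact ⟨_, hN _ a.2 n hn, (hconj a n).symm⟩
    · rintro ⟨n, hn, he⟩
      refine ⟨_, hN _ (A.inv_mem a.2) n hn, ?_⟩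
      have e := hconj a⁻¹ n
      rw [he, map_inv] at e
      simp only [Subgroup.coe_inv] at e
      rw [← e]; group
  have hc : (Nat.card A0).Coprime (Nat.card N0) := by
    have h1 : Nat.card A0 = Nat.card A :=
      (Nat.card_congr (MonoidHom.ofInjective (f := (SemidirectProduct.inr : A →* G ⋊[φ] A))
        SemidirectProduct.inr_injective).toEquiv).symm
    have h2 : Nat.card N0 = Nat.card N := Subgroup.card_map_of_injective SemidirectProduct.inl_injective
    rw [h1, h2]
    exact hA.coprime_dvd_right (card_subgroup_dvd_card N)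
  obtain ⟨n0, ⟨n, hn', rfl⟩, hfix⟩ := CfsgLib.Core.exists_centralizing_in_coset hn hc (solvable_or hc)
    (k := SemidirectProduct.inl g) (by
      rintro _ ⟨a, rfl⟩
      exact ⟨_, hg _ a.2, by rw [map_mul, map_inv, hconj]⟩)
  refine ⟨n, hn', fun a ha => SemidirectProduct.inl_injective (φ := φ) ?_⟩
  have h1 := mem_centralizer_iff.1 hfix _ ⟨⟨a, ha⟩, rfl⟩
  rw [← map_mul] at h1
  rw [← hconj ⟨a, ha⟩, h1]
  group

theorem involves_of_hasPSL {G : Type u} [Group G] {C : Subgroup G} (h : HasPSL p C) {F : Type*} [Field F]
    [Fintype F] (hF : Fintype.card F = p) :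
    Cfsg.Involves (Matrix.ProjectiveSpecialLinearGroup (Fin 2) F) ↥C := by
  obtain ⟨K, π, hK, hπ⟩ := h
  let e := CfsgLib.Classical.Dickson.pslCongr (ZMod.ringEquivOfPrime F (Fact.out : p.Prime) hF)
  let f : ↥(K.subgroupOf C) →* Matrix.ProjectiveSpecialLinearGroup (Fin 2) F :=
    e.toMonoidHom.comp (π.comp (subgroupOfEquivOfLe hK).toMonoidHom)
  have hf : Function.Surjective f := e.surjective.comp (hπ.comp (MulEquiv.surjective _))
  have hR : (f.ker.map (K.subgroupOf C).subtype).subgroupOf (K.subgroupOf C) = f.ker := by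
    exact comap_map_eq_self_of_injective (K.subgroupOf C).subtype_injective _
  haveI hn : ((f.ker.map (K.subgroupOf C).subtype).subgroupOf (K.subgroupOf C)).Normal := by
    rw [hR]; exact MonoidHom.normal_ker f
  refine ⟨K.subgroupOf C, f.ker.map (K.subgroupOf C).subtype, hn, ?_⟩
  exact ⟨(QuotientGroup.quotientMulEquivOfEq hR).trans (QuotientGroup.quotientKerEquivOfSurjective f hf)⟩

/-- A quadratic element outside `O_p` gives `PSL(2, p)` in the fixed points. -/
theorem hasPSL_of_quadratic (hp5 : 5 ≤ p) : ∀ (n : ℕ) {V : Type} [AddCommGroup V] [Module (ZMod p) V]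
    [FiniteDimensional (ZMod p) V] (H A : Subgroup (LinearMap.GeneralLinearGroup (ZMod p) V)),
    Module.finrank (ZMod p) V < n →
    A ≤ normalizer (H : Set (LinearMap.GeneralLinearGroup (ZMod p) V)) →
    (Nat.card A).Coprime (Nat.card H) →
    ∀ x : Module.End (ZMod p) V, x * x = 0 → ∀ hx : expU x ∈ H,
      (⟨expU x, hx⟩ : H) ∉ Cfsg.pCore p H →
      HasPSL p (H ⊓ centralizer (A : Set (LinearMap.GeneralLinearGroup (ZMod p) V))) := by
  intro n
  induction n with
  | zero => intro V _ _ _ H A h; omega
  | succ n ih =>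
    intro V _ _ _ H A hn hAn hcop x hxx hx hnx
    classical
    haveI := finite_gl (p := p) (V := V)
    by_cases hW : ∃ W : Submodule (ZMod p) V, W ≠ ⊥ ∧ W ≠ ⊤ ∧
        ∀ g ∈ H ⊔ A, ∀ w ∈ W, (g : Module.End (ZMod p) V) w ∈ W
    · obtain ⟨W, hW0, hW1, hinv⟩ := hW
      have hle : H ⊔ A ≤ stabSub W := fun g hg => ⟨hinv g hg, hinv g⁻¹ (inv_mem hg)⟩
      have hH : H ≤ stabSub W := le_sup_left.trans hle
      have hA : A ≤ stabSub W := le_sup_right.trans hle
      set H0 := H.subgroupOf (stabSub W) with hH0
      set A0 := A.subgroupOf (stabSub W) with hA0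
      have hn' : A0 ≤ normalizer (H0 : Set (stabSub W)) := fun a ha => by
        rw [mem_normalizer_iff]
        exact fun y => mem_normalizer_iff.1 (hAn ha) y
      have hxW : ∀ w ∈ W, x w ∈ W := fun w hw => by
        have := hinv _ (mem_sup_left hx) w hw
        rw [expU_val hxx, LinearMap.add_apply, Module.End.one_apply] at this
        simpa using W.sub_mem this hw
      let x0 : stabSub W := ⟨expU x, hH hx⟩
      -- one of the two sections keeps `x` outside `O_p`
      haveI := finite_gl (p := p) (V := W)
      haveI := finite_gl (p := p) (V := V ⧸ W)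
      let r1 := (subRes W).comp H0.subtype
      let r2 := (quotRes W).comp H0.subtype
      let D : Subgroup H0 := (Cfsg.pCore p r1.range).comap r1.rangeRestrict ⊓
        (Cfsg.pCore p r2.range).comap r2.rangeRestrict
      have hDp : IsPGroup p D := by
        rintro ⟨y, hy1, hy2⟩
        obtain ⟨k1, h1⟩ := (Components.pCore_isPGroup (G := ↥r1.range) (p := p)) ⟨_, hy1⟩
        obtain ⟨k2, h2⟩ := (Components.pCore_isPGroup (G := ↥r2.range) (p := p)) ⟨_, hy2⟩
        have e1 : r1 (y ^ p ^ (k1 + k2)) = 1 := by
          have := congrArg (fun z : ↥(Cfsg.pCore p r1.range) => ((z : r1.range) : LinearMap.GeneralLinearGroup (ZMod p) W)) h1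
          simp only [SubgroupClass.coe_pow, OneMemClass.coe_one, MonoidHom.coe_rangeRestrict] at this
          rw [map_pow, pow_add, pow_mul, this, one_pow]
        have e2 : r2 (y ^ p ^ (k1 + k2)) = 1 := by
          have := congrArg (fun z : ↥(Cfsg.pCore p r2.range) => ((z : r2.range) : LinearMap.GeneralLinearGroup (ZMod p) (V ⧸ W))) h2
          simp only [SubgroupClass.coe_pow, OneMemClass.coe_one, MonoidHom.coe_rangeRestrict] at this
          rw [map_pow, pow_add, mul_comm, pow_mul, this, one_pow]
        set z := y ^ p ^ (k1 + k2) with hz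
        set g : LinearMap.GeneralLinearGroup (ZMod p) V := ((z : stabSub W) : LinearMap.GeneralLinearGroup (ZMod p) V) with hgdef
        set e := (g : Module.End (ZMod p) V) - 1 with he
        have hfix : ∀ w ∈ W, e w = 0 := fun w hw => by
          have := congrArg (fun u : LinearMap.GeneralLinearGroup (ZMod p) W => (((u : Module.End (ZMod p) W) ⟨w, hw⟩ : W) : V)) e1
          rw [he, LinearMap.sub_apply, Module.End.one_apply, sub_eq_zero]
          exact this
        have hrange : ∀ v, e v ∈ W := fun v => by
          have := congrArg (fun u : LinearMap.GeneralLinearGroup (ZMod p) (V ⧸ W) => (u : Module.End (ZMod p) (V ⧸ W)) (Submodule.Quotient.mk v)) e2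
          rw [he, LinearMap.sub_apply, Module.End.one_apply, ← Submodule.Quotient.eq]
          exact this
        have hee : op g * op g = 0 := LinearMap.ext fun v => hfix _ (hrange v)
        refine ⟨k1 + k2 + 1, Subtype.ext (Subtype.ext (Subtype.ext ?_))⟩
        rw [SubgroupClass.coe_pow, pow_succ, pow_mul]
        show g ^ p = 1
        rw [← expU_op hee, expU_pow_p (by exact hee)]
      have hxD : (⟨x0, hx⟩ : H0) ∉ D := by
        intro hmem
        refine hnx ?_
        have hle' : D ≤ Cfsg.pCore p H0 := CfsgLib.Core.le_pCore hDp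
        have h2 : (⟨x0, hx⟩ : H0) ∈ Cfsg.pCore p H0 := hle' hmem
        let e : H0 ≃* H := subgroupOfEquivOfLe hH
        have h3 := mem_map_of_mem e.toMonoidHom h2
        rwa [CfsgLib.Core.map_equiv_pCore e] at h3
      have hfW : Module.finrank (ZMod p) W < Module.finrank (ZMod p) V := Submodule.finrank_lt hW1
      have hfQ : Module.finrank (ZMod p) (V ⧸ W) < Module.finrank (ZMod p) V := by
        have := W.finrank_quotient_add_finrank
        have : 0 < Module.finrank (ZMod p) W := by
          rw [Nat.pos_iff_ne_zero]; exact fun e => hW0 (Submodule.finrank_eq_zero.1 e)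
        omega
      have hcopr : ∀ {W' : Type} [AddCommGroup W'] [Module (ZMod p) W']
          (r : stabSub W →* LinearMap.GeneralLinearGroup (ZMod p) W'),
          (Nat.card (A0.map r)).Coprime (Nat.card (H0.map r)) ∧
          A0.map r ≤ normalizer (((H0.map r : Subgroup _)) : Set _) := by
        intro W' _ _ r
        have d1 := H0.card_map_dvd r
        have d2 := A0.card_map_dvd r
        rw [Nat.card_congr (subgroupOfEquivOfLe hH).toEquiv] at d1
        rw [Nat.card_congr (subgroupOfEquivOfLe hA).toEquiv] at d2
        exact ⟨(hcop.coprime_dvd_left d2).coprime_dvd_right d1, (map_mono hn').trans (le_normalizer_map r)⟩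
      have go : ∀ {W' : Type} [AddCommGroup W'] [Module (ZMod p) W'] [FiniteDimensional (ZMod p) W']
          (r : stabSub W →* LinearMap.GeneralLinearGroup (ZMod p) W') (x' : Module.End (ZMod p) W'),
          Module.finrank (ZMod p) W' < n → x' * x' = 0 → r x0 = expU x' →
          (r.comp H0.subtype).rangeRestrict ⟨x0, hx⟩ ∉ Cfsg.pCore p (r.comp H0.subtype).range →
          HasPSL p (H ⊓ centralizer (A : Set (LinearMap.GeneralLinearGroup (ZMod p) V))) := by
        intro W' _ _ _ r x' hlt hx' hrx hnot
        haveI := finite_gl (p := p) (V := W')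
        obtain ⟨hc2, hc3⟩ := hcopr r
        have hmem : expU x' ∈ H0.map r := ⟨x0, hx, hrx⟩
        refine descend r hH hA hAn hcop (ih _ _ hlt hc3 hc2 x' hx' hmem fun hc => hnot ?_)
        let e : ↥(H0.map r) ≃* ↥(r.comp H0.subtype).range :=
          MulEquiv.subgroupCongr (by rw [MonoidHom.range_comp, H0.range_subtype])
        have h3 := mem_map_of_mem e.toMonoidHom hc
        rw [CfsgLib.Core.map_equiv_pCore e] at h3
        convert h3 using 1
        exact Subtype.ext hrx
      have hxq : ∀ v, W.mapQ W x hxW (W.mapQ W x hxW (Submodule.Quotient.mk v)) = 0 := fun v => by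
        show Submodule.Quotient.mk (x (x v)) = 0
        rw [← Module.End.mul_apply, hxx]; rfl
      by_cases h1 : r1.rangeRestrict ⟨x0, hx⟩ ∈ Cfsg.pCore p r1.range
      · have hxQ : W.mapQ W x hxW * W.mapQ W x hxW = 0 :=
          Submodule.linearMap_qext _ (LinearMap.ext fun v => hxq v)
        refine go (quotRes W) (W.mapQ W x hxW) (by omega) hxQ ?_ fun h2 => hxD ⟨h1, h2⟩
        refine Units.ext ?_
        rw [expU_val hxQ]
        refine Submodule.linearMap_qext _ (LinearMap.ext fun v => ?_)
        show Submodule.Quotient.mk ((expU x : Module.End (ZMod p) V) v) = _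
        rw [expU_val hxx]
        rfl
      · have hxR : LinearMap.restrict x hxW * LinearMap.restrict x hxW = 0 :=
          LinearMap.ext fun w => Subtype.ext (show x (x w) = 0 by rw [← Module.End.mul_apply, hxx]; rfl)
        refine go (subRes W) (LinearMap.restrict x hxW) (by omega) hxR ?_ h1
        refine Units.ext ?_
        rw [expU_val hxR]
        refine LinearMap.ext fun w => Subtype.ext ?_
        show (expU x : Module.End (ZMod p) V) w = _
        rw [expU_val hxx]
        rfl
    · push Not at hW
      have hcore : NoCore H := by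
        set O := (Cfsg.pCore p H).map H.subtype with hO
        have hOn : H ⊔ A ≤ normalizer (O : Set _) :=
          sup_le (le_normalizer.trans (normalizer_le_pCore_map (p := p) H)) (hAn.trans (normalizer_le_pCore_map (p := p) H))
        have hOp : IsPGroup p O := (Components.pCore_isPGroup (G := ↥H) (p := p)).map _
        let W : Submodule (ZMod p) V :=
          ⨅ g : O, LinearMap.ker (((g : LinearMap.GeneralLinearGroup (ZMod p) V) : Module.End (ZMod p) V) - 1)
        have hWmem : ∀ v, v ∈ W ↔ ∀ g ∈ O, (g : Module.End (ZMod p) V) v = v := fun v => by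
          simp [W, sub_eq_zero]
        have hinv : ∀ y ∈ H ⊔ A, ∀ w ∈ W, (y : Module.End (ZMod p) V) w ∈ W := by
          intro y hy w hw
          rw [hWmem] at hw ⊢
          intro g hg
          have := hw _ ((mem_normalizer_iff''.1 (hOn hy) g).1 hg)
          rw [Units.val_mul, Units.val_mul, Module.End.mul_apply, Module.End.mul_apply] at this
          conv_rhs => rw [← this]
          rw [← Module.End.mul_apply (y : Module.End (ZMod p) V) (↑y⁻¹), ← Units.val_mul, mul_inv_cancel, Units.val_one,
            Module.End.one_apply]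
        have hOfix : ∀ g ∈ O, ∀ v, (g : Module.End (ZMod p) V) v = v := by
          by_cases hW0 : W = ⊥
          · intro g hg v
            rcases subsingleton_or_nontrivial V with hV | hV
            · exact Subsingleton.elim _ _
            exfalso
            haveI : Finite V := Module.finite_of_finite (ZMod p)
            have hdvd : p ∣ Nat.card V := by
              rw [Module.natCard_eq_pow_finrank (K := ZMod p), Nat.card_zmod]
              exact dvd_pow_self p (Module.finrank_pos).ne'
            letI : MulAction O V :=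
              { smul := fun g v => ((g : LinearMap.GeneralLinearGroup (ZMod p) V) : Module.End (ZMod p) V) v
                one_smul := fun v => rfl
                mul_smul := fun g g' v => rfl }
            obtain ⟨b, hb, hb0⟩ := hOp.exists_fixed_point_of_prime_dvd_card_of_fixed_point V hdvd
              (a := (0 : V)) (fun g => map_zero _)
            have : b ∈ W := (hWmem b).2 fun g hg => hb ⟨g, hg⟩
            rw [hW0, Submodule.mem_bot] at this
            exact hb0 this.symm
          · intro g hg v
            have hW1 : W = ⊤ := by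
              by_contra hW1
              obtain ⟨y, hy, w, hw, hne⟩ := hW W hW0 hW1
              exact hne (hinv y hy w hw)
            exact (hWmem v).1 (hW1 ▸ Submodule.mem_top) g hg
        intro N hN hNn hNp
        rw [eq_bot_iff]
        intro g hg
        rw [mem_bot]
        exact Units.ext (LinearMap.ext fun v => hOfix g (le_pCore_map hN hNn hNp hg) v)
      have hx0 : x ≠ 0 := by
        rintro rfl
        apply hnx
        have : (⟨expU 0, hx⟩ : H) = 1 := Subtype.ext (Units.ext (by rw [expU_val hxx]; simp))
        rw [this]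
        exact one_mem _
      have hexd : ∃ d, ∃ y : Module.End (ZMod p) V, y * y = 0 ∧ Fam H y ∧ y ≠ 0 ∧ rk y = d :=
        ⟨_, x, hxx, fam_of_expU_mem hxx hx, hx0, rfl⟩
      obtain ⟨y, hy1, hy2, hy3, hy4⟩ := Nat.find_spec hexd
      have hm : MinRank H (Nat.find hexd) := by
        refine ⟨?_, fun z h1 h2 h3 => Nat.find_min' hexd ⟨z, h1, h2, h3, rfl⟩⟩
        rw [← hy4, Nat.pos_iff_ne_zero]
        intro e
        exact hy3 (LinearMap.range_eq_bot.1 (Submodule.finrank_eq_zero.1 e))
      obtain ⟨q, hq⟩ := exists_opp_of_root hp5 hcore hm ⟨hy1, hy2, hy4⟩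
      exact hasPSL_fixed hp5 hAn hcop ⟨_, _, Pair.of_opp hm hq⟩

end CfsgLib.PLocal.ZJCoprime
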