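import Cfsg.Agent.Lib.PLocal.ZJCoprime.Geometry
import Cfsg.Agent.Lib.LocalEven.JordanField
import Cfsg.Agent.Lib.Core.Coprime

/-!
# An operator group fixing the image of a root centralises a pair
-/

set_option autoImplicit false

namespace CfsgLib.PLocal.ZJCoprime

open Cfsg CfsgLib.QuadPair Subgroup Matrix

variable {p : ℕ} [Fact p.Prime] {V : Type} [AddCommGroup V] [Module (ZMod p) V] [FiniteDimensional (ZMod p) V]
variable {G A : Subgroup (LinearMap.GeneralLinearGroup (ZMod p) V)} {d : ℕ}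
variable {s q : Module.End (ZMod p) V}

/-- `θ (Cls s)` for an opposite `q`. -/
def kSet (G : Subgroup (LinearMap.GeneralLinearGroup (ZMod p) V)) {s : Module.End (ZMod p) V}
    (hs : s * s = 0) (q : Module.End (ZMod p) V) : AddSubgroup (Module.End (ZMod p) V) where
  carrier := {x | ∃ e ∈ Cls G s, x = e * q + q * e}
  zero_mem' := ⟨0, Cls.zero G s, by simp⟩
  add_mem' := by
    rintro _ _ ⟨a, ha, rfl⟩ ⟨b, hb, rfl⟩
    exact ⟨a + b, Cls.add hs ha hb, by rw [add_mul, mul_add]; abel⟩
  neg_mem' := by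
    rintro _ ⟨a, ha, rfl⟩
    exact ⟨-a, by simpa using Cls.smul ha (-1), by rw [neg_mul, mul_neg, neg_add]⟩

theorem Full.theta_mul_s (hf : Full G d) (h : Opp G d s q) {e : Module.End (ZMod p) V} (he : e ∈ Cls G s) :
    (e * q + q * e) * s = e ∧ s * (e * q + q * e) = e ∧ (e * q + q * e) * q = q * (e * q + q * e) := by
  have e1 := hf.full _ _ h
  have h1 : e * s = 0 := Cls.mul_eq_zero h.left.sq he h.left.mem_cls
  have h2 : s * e = 0 := Cls.mul_eq_zero h.left.sq h.left.mem_cls he
  refine ⟨?_, ?_, ?_⟩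
  · rw [add_mul, mul_assoc q, h1, mul_zero, add_zero, mul_assoc, eq_sub_of_add_eq' e1, mul_sub, mul_one,
      ← mul_assoc, h1, zero_mul, sub_zero]
  · rw [mul_add, ← mul_assoc, h2, zero_mul, zero_add, ← mul_assoc, eq_sub_of_add_eq e1, sub_mul, one_mul,
      mul_assoc, h2, mul_zero, sub_zero]
  · rw [add_mul, mul_add, mul_assoc e, h.right.sq, mul_zero, zero_add, ← mul_assoc q q, h.right.sq,
      zero_mul, add_zero, mul_assoc]

theorem Full.cls_range (hf : Full G d) (hs : Root G d s) {e : Module.End (ZMod p) V} (he : Root G d e)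
    (h : LinearMap.range e = LinearMap.range s) : e ∈ Cls G s :=
  ⟨he.sq, he.fam, h.le, by rw [hf.ker_eq hs, hf.ker_eq he, h]⟩

theorem Full.invIn (hf : Full G d) (h : Opp G d s q) :
    CfsgLib.LocalEven.Jordan.InvIn (kSet G h.left.sq q) (kSet G h.right.sq s) := by
  rintro _ ⟨e, he, rfl⟩ hne
  have he0 : e ≠ 0 := fun e0 => hne (by simp [e0])
  obtain ⟨her, hr, -⟩ := Cls.root hf.minRank h.left he he0
  have hnil : ¬ IsNilpotent (q * e) := by
    rw [hf.nonnil her h.right, hr, ← hf.nonnil h.left h.right]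
    exact h.nonnil hf.minRank
  obtain ⟨q1, ho, hr1⟩ := hf.exists_opp her h.right hnil
  have hq1 : q1 ∈ Cls G q := hf.cls_range h.right ho.right hr1
  have e1 := hf.full _ _ h
  have e2 := hf.full _ _ ho
  have z1 : e * s = 0 := Cls.mul_eq_zero h.left.sq he h.left.mem_cls
  have z2 : s * e = 0 := Cls.mul_eq_zero h.left.sq h.left.mem_cls he
  have z3 : q * q1 = 0 := Cls.mul_eq_zero h.right.sq h.right.mem_cls hq1
  have z4 : q1 * q = 0 := Cls.mul_eq_zero h.right.sq hq1 h.right.mem_cls
  have hP : e * q1 = s * q := by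
    calc e * q1 = (s * q + q * s) * (e * q1) := by rw [e1, one_mul]
      _ = s * q * (e * q1) + q * (s * e) * q1 := by rw [add_mul]; simp only [mul_assoc]
      _ = s * q * (1 - q1 * e) := by rw [z2, mul_zero, zero_mul, add_zero, ← eq_sub_of_add_eq e2]
      _ = s * q - s * (q * q1) * e := by rw [mul_sub, mul_one]; simp only [mul_assoc]
      _ = s * q := by rw [z3, mul_zero, zero_mul, sub_zero]
  refine ⟨q1 * s + s * q1, ⟨q1, hq1, rfl⟩, ?_, ?_⟩
  · have : (e * q + q * e) * (q1 * s + s * q1) =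
        e * (q * q1) * s + e * (q * s) * q1 + q * (e * q1) * s + q * (e * s) * q1 := by
      simp only [add_mul, mul_add, mul_assoc]; abel
    rw [this, z3, z1, hP, eq_sub_of_add_eq' e1, mul_zero, zero_mul, zero_add, mul_zero, zero_mul, add_zero,
      ← mul_assoc q s q, h.qsq, mul_sub, mul_one, ← mul_assoc e s q, z1, zero_mul, sub_zero, hP]
    exact e1
  · have : (q1 * s + s * q1) * (e * q + q * e) =
        q1 * (s * e) * q + q1 * (s * q) * e + s * (q1 * e) * q + s * (q1 * q) * e := by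
      simp only [add_mul, mul_add, mul_assoc]; abel
    rw [this, z2, z4, eq_sub_of_add_eq e1, eq_sub_of_add_eq' e2, hP, mul_zero, zero_mul, zero_add,
      mul_zero, zero_mul, add_zero]
    have a1 : q1 * (1 - q * s) * e = q1 * e := by rw [mul_sub, mul_one, ← mul_assoc, z4, zero_mul, sub_zero]
    have a2 : s * (1 - s * q) * q = s * q := by rw [mul_sub, mul_one, ← mul_assoc, h.left.sq, zero_mul, sub_zero]
    rw [a1, a2, eq_sub_of_add_eq' e2, hP, sub_add_cancel]

theorem Full.kSet_one (hf : Full G d) (h : Opp G d s q) : (1 : Module.End (ZMod p) V) ∈ kSet G h.left.sq q :=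
  ⟨s, h.left.mem_cls, (hf.full _ _ h).symm⟩

theorem Full.kSet_eq (hf : Full G d) (h : Opp G d s q) : kSet G h.left.sq q = kSet G h.right.sq s :=
  CfsgLib.LocalEven.Jordan.eq_of_invIn (hf.invIn h) (hf.invIn h.symm) (hf.kSet_one h) (hf.kSet_one h.symm)

theorem Full.kSet_invIn (hf : Full G d) (h : Opp G d s q) :
    CfsgLib.LocalEven.Jordan.InvIn (kSet G h.left.sq q) (kSet G h.left.sq q) := by
  have := hf.invIn h
  rwa [← hf.kSet_eq h] at this

theorem Full.kSet_comm [Finite (Module.End (ZMod p) V)] (hf : Full G d) (h : Opp G d s q)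
    {x y : Module.End (ZMod p) V} (hx : x ∈ kSet G h.left.sq q) (hy : y ∈ kSet G h.left.sq q) :
    x * y = y * x ∧ x * y ∈ kSet G h.left.sq q := by
  have hchar : (p : Module.End (ZMod p) V) = 0 := by
    rw [← map_natCast (algebraMap (ZMod p) (Module.End (ZMod p) V)), ZMod.natCast_self, map_zero]
  have hc := CfsgLib.LocalEven.Jordan.jordan_comm (p := p) hchar (hf.kSet_one h) (hf.kSet_invIn h) hx hy
  refine ⟨hc, ?_⟩
  obtain ⟨e, he, hxy⟩ := CfsgLib.LocalEven.Jordan.sandwich_add (hf.kSet_one h) (hf.kSet_invIn h) hx hy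
    (hf.kSet_one h)
  rw [mul_one, mul_one, ← hc, ← two_smul (ZMod p)] at hxy
  refine ⟨(2 : ZMod p)⁻¹ • e, Cls.smul he _, ?_⟩
  rw [smul_mul_assoc, mul_smul_comm, ← smul_add, ← hxy, smul_smul, inv_mul_cancel₀ (two_ne hf.hp5), one_smul]

/-- A group fixing the image of a root moves some opposite image to itself. -/
theorem Full.exists_fixed_range [Finite (LinearMap.GeneralLinearGroup (ZMod p) V)] (hf : Full G d)
    (hAn : A ≤ normalizer (G : Set (LinearMap.GeneralLinearGroup (ZMod p) V)))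
    (hcop : (Nat.card A).Coprime (Nat.card G)) (hs : Root G d s)
    (hfix : ∀ a ∈ A, LinearMap.range (conjOp a s) = LinearMap.range s) :
    ∃ q, Opp G d s q ∧ ∀ a ∈ A, LinearMap.range (conjOp a q) = LinearMap.range q := by
  obtain ⟨q, h⟩ := hf.opp s hs
  have hclsA : ∀ a ∈ A, ∀ e ∈ Cls G s, conjOp a e ∈ Cls G s := by
    intro a ha e he
    rcases eq_or_ne e 0 with rfl | he0
    · rw [conjOp_zero]; exact Cls.zero G s
    obtain ⟨her, hr, -⟩ := Cls.root hf.minRank hs he he0
    refine hf.cls_range hs ⟨conjOp_sq her.sq, fam_conj (hAn ha) her.fam, by rw [rk_conjOp, her.rank]⟩ ?_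
    rw [range_conjOp, hr, ← range_conjOp, hfix a ha]
  have hadd : ∀ {a b}, a ∈ Cls G s → b ∈ Cls G s → expU a * expU b = expU (a + b) := by
    intro a b ha hb
    refine Units.ext ?_
    rw [Units.val_mul, expU_val ha.1, expU_val hb.1, expU_val (Cls.add hs.sq ha hb).1, add_mul, one_mul,
      mul_add, mul_one, Cls.mul_eq_zero hs.sq ha hb]
    abel
  let U : Subgroup (LinearMap.GeneralLinearGroup (ZMod p) V) :=
    { carrier := {g | ∃ e ∈ Cls G s, g = expU e}
      one_mem' := ⟨0, Cls.zero G s, Units.ext (by rw [expU_val (by simp)]; simp)⟩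
      mul_mem' := by
        rintro _ _ ⟨a, ha, rfl⟩ ⟨b, hb, rfl⟩
        exact ⟨a + b, Cls.add hs.sq ha hb, hadd ha hb⟩
      inv_mem' := by
        rintro _ ⟨a, ha, rfl⟩
        have hn : -a ∈ Cls G s := by simpa using Cls.smul ha (-1)
        refine ⟨-a, hn, inv_eq_of_mul_eq_one_right ?_⟩
        rw [hadd ha hn, add_neg_cancel]
        exact Units.ext (by rw [expU_val (by simp)]; simp) }
  have hUG : U ≤ G := by
    rintro _ ⟨e, he, rfl⟩
    exact expU_mem he.2.1 he.1
  have hAU : A ≤ normalizer (U : Set _) := by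
    intro a ha
    rw [mem_normalizer_iff]
    refine fun g => ⟨?_, ?_⟩
    · rintro ⟨e, he, rfl⟩
      exact ⟨_, hclsA a ha e he, (expU_conj a he.1).symm⟩
    · rintro ⟨e, he, heq⟩
      refine ⟨_, hclsA a⁻¹ (A.inv_mem ha) e he, ?_⟩
      rw [expU_conj _ he.1, ← heq]; group
  have hsolv : Group.IsSolvable U := Group.isSolvable_of_comm fun x y => by
    obtain ⟨_, a, ha, rfl⟩ := x
    obtain ⟨_, b, hb, rfl⟩ := y
    refine Subtype.ext ?_
    show expU a * expU b = expU b * expU a
    rw [hadd ha hb, hadd hb ha, add_comm]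
  letI : MulAction (LinearMap.GeneralLinearGroup (ZMod p) V) (Submodule (ZMod p) V) :=
    { smul := fun g W => W.map (g : Module.End (ZMod p) V)
      one_smul := fun W => Submodule.map_id W
      mul_smul := fun g g' W => Submodule.map_comp _ _ W }
  obtain ⟨k, hk, hkfix⟩ := CfsgLib.Core.exists_fixed_point hAU (hcop.coprime_dvd_right (card_dvd_of_le hUG))
    (Or.inr hsolv) (x := LinearMap.range q) (by
      intro a ha
      have haq : Root G d (conjOp a q) :=
        ⟨conjOp_sq h.right.sq, fam_conj (hAn ha) h.right.fam, by rw [rk_conjOp, h.right.rank]⟩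
      have hnil : ¬ IsNilpotent (conjOp a q * s) := by
        rw [hf.nonnil hs haq, range_conjOp, ← hfix a ha, range_conjOp]
        have hdisj := (hf.nonnil hs h.right).1 (h.nonnil hf.minRank)
        rw [eq_bot_iff]
        rintro v ⟨⟨x, hx, rfl⟩, ⟨y, hy, hxy⟩⟩
        have : x = y := by
          have := congrArg (((a⁻¹ : LinearMap.GeneralLinearGroup (ZMod p) V) : Module.End (ZMod p) V)) hxy
          rw [← Module.End.mul_apply, ← Module.End.mul_apply, ← Units.val_mul, inv_mul_cancel, Units.val_one] at this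
          exact this.symm
        subst this
        have : x ∈ (⊥ : Submodule (ZMod p) V) := hdisj ▸ ⟨hx, hy⟩
        rw [Submodule.mem_bot] at this ⊢
        rw [this, map_zero]
      obtain ⟨q', ho, hr⟩ := hf.exists_opp hs haq hnil
      obtain ⟨he, hmv⟩ := hf.exists_move h ho
      refine ⟨expU (s * (q - q')), ⟨_, he, rfl⟩, ?_⟩
      show (LinearMap.range q).map (a : Module.End (ZMod p) V) = (LinearMap.range q).map (_ : Module.End (ZMod p) V)
      rw [← range_conjOp, ← range_conjOp, hmv, hr])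
  obtain ⟨e, he, rfl⟩ := hk
  have hcs : conjOp (expU e) s = s := by
    rw [conjOp_eq_self, expU_val he.1, add_mul, mul_add, one_mul, mul_one,
      Cls.mul_eq_zero hs.sq he hs.mem_cls, Cls.mul_eq_zero hs.sq hs.mem_cls he]
  have hkG : expU e ∈ G := hUG ⟨e, he, rfl⟩
  refine ⟨conjOp (expU e) q, ⟨hs, h.right.conj hkG, ?_, ?_⟩, fun a ha => ?_⟩
  · calc s * conjOp (expU e) q * s = conjOp (expU e) (s * q * s) := by rw [conjOp_mul, conjOp_mul, hcs]
      _ = s := by rw [h.sqs, hcs]
  · calc conjOp (expU e) q * s * conjOp (expU e) q = conjOp (expU e) (q * s * q) := by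
          rw [conjOp_mul, conjOp_mul, hcs]
      _ = _ := by rw [h.qsq]
  · have := hkfix a ha
    rw [range_conjOp, range_conjOp]
    exact this

/-- A group fixing the image of a root centralises a pair. -/
theorem Full.exists_fixed_pair [Finite (LinearMap.GeneralLinearGroup (ZMod p) V)] [Finite (Module.End (ZMod p) V)]
    (hf : Full G d) (hAn : A ≤ normalizer (G : Set (LinearMap.GeneralLinearGroup (ZMod p) V)))
    (hcop : (Nat.card A).Coprime (Nat.card G)) (hs : Root G d s)
    (hfix : ∀ a ∈ A, LinearMap.range (conjOp a s) = LinearMap.range s) :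
    ∃ s0 q0, Pair G s0 q0 ∧ ∀ a ∈ A, conjOp a s0 = s0 ∧ conjOp a q0 = q0 := by
  classical
  obtain ⟨q, h, hfq⟩ := hf.exists_fixed_range hAn hcop hs hfix
  have hmr := hf.minRank
  have e1 := hf.full _ _ h
  have hcl : ∀ {r : Module.End (ZMod p) V}, Root G d r → (∀ a ∈ A, LinearMap.range (conjOp a r) = LinearMap.range r) →
      ∀ a ∈ A, ∀ e ∈ Cls G r, conjOp a e ∈ Cls G r := by
    intro r hr hfr a ha e he
    rcases eq_or_ne e 0 with rfl | he0
    · rw [conjOp_zero]; exact Cls.zero G r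
    obtain ⟨her, hre, -⟩ := Cls.root hmr hr he he0
    refine hf.cls_range hr ⟨conjOp_sq her.sq, fam_conj (hAn ha) her.fam, by rw [rk_conjOp, her.rank]⟩ ?_
    rw [range_conjOp, hre, ← range_conjOp, hfr a ha]
  set L := kSet G h.left.sq q with hL
  have hcomm : ∀ {x y}, x ∈ L → y ∈ L → x * y = y * x := fun hx hy => (hf.kSet_comm h hx hy).1
  have hxs : ∀ {x}, x ∈ L → x * s ∈ Cls G s ∧ s * x = x * s ∧ x * q = q * x ∧ (x * s) * q + q * (x * s) = x := by
    rintro _ ⟨e, he, rfl⟩
    obtain ⟨a1, a2, a3⟩ := hf.theta_mul_s h he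
    rw [a1]
    exact ⟨he, a2, a3, rfl⟩
  have hyq : ∀ {x}, x ∈ L → x * q ∈ Cls G q := by
    intro x hx
    rw [hL, hf.kSet_eq h] at hx
    obtain ⟨f, hf', rfl⟩ := hx
    rw [(hf.theta_mul_s h.symm hf').1]
    exact hf'
  have hsig : ∀ a ∈ A, ∀ x ∈ L, conjOp a x ∈ L := by
    rintro a ha _ ⟨e, he, rfl⟩
    have he' := hcl hs hfix a ha e he
    have hf' := hcl h.right hfq a ha q h.right.mem_cls
    set X := conjOp a e * q + q * conjOp a e with hX
    set Y := conjOp a q * s + s * conjOp a q with hY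
    have hXm : X ∈ L := ⟨_, he', rfl⟩
    have hYm : Y ∈ L := by rw [hL, hf.kSet_eq h]; exact ⟨_, hf', rfl⟩
    obtain ⟨b1, -, b3⟩ := hf.theta_mul_s h he'
    obtain ⟨c1, -, -⟩ := hf.theta_mul_s h.symm hf'
    rw [conjOp_add, conjOp_mul, conjOp_mul]
    have : conjOp a e * conjOp a q + conjOp a q * conjOp a e = X * Y := by
      calc _ = (X * s) * (Y * q) + (Y * q) * (X * s) := by rw [b1, c1]
        _ = X * (s * Y) * q + Y * (q * X) * s := by simp only [mul_assoc]
        _ = (X * Y) * (s * q) + (Y * X) * (q * s) := by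
          rw [(hxs hYm).2.1, ← (hxs hXm).2.2.1]; simp only [mul_assoc]
        _ = X * Y := by rw [← hcomm hXm hYm, ← mul_add, e1, mul_one]
    rw [this]
    exact (hf.kSet_comm h hXm hYm).2
  let Kr : Subring (Module.End (ZMod p) V) :=
    { carrier := L
      zero_mem' := L.zero_mem
      one_mem' := hf.kSet_one h
      add_mem' := L.add_mem
      neg_mem' := L.neg_mem
      mul_mem' := fun hx hy => (hf.kSet_comm h hx hy).2 }
  letI : CommRing Kr := { (inferInstance : Ring Kr) with mul_comm := fun x y => Subtype.ext (hcomm x.2 y.2) }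
  let σ : A → Kr →+* Kr := fun a =>
    { toFun := fun x => ⟨conjOp (a : LinearMap.GeneralLinearGroup (ZMod p) V) x, hsig a a.2 x x.2⟩
      map_one' := Subtype.ext (conjOp_one _)
      map_mul' := fun x y => Subtype.ext (conjOp_mul _ _ _)
      map_zero' := Subtype.ext (conjOp_zero _)
      map_add' := fun x y => Subtype.ext (conjOp_add _ _ _) }
  let c : A → Kr := fun a => ⟨conjOp (a : LinearMap.GeneralLinearGroup (ZMod p) V) s * q +
    q * conjOp (a : LinearMap.GeneralLinearGroup (ZMod p) V) s, _, hcl hs hfix a a.2 s hs.mem_cls, rfl⟩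
  have hcs : ∀ a : A, (c a : Module.End (ZMod p) V) * s = conjOp (a : LinearMap.GeneralLinearGroup (ZMod p) V) s :=
    fun a => (hf.theta_mul_s h (hcl hs hfix a a.2 s hs.mem_cls)).1
  have hcancel : ∀ x y : Kr, (x : Module.End (ZMod p) V) * s = (y : Module.End (ZMod p) V) * s → x = y := by
    intro x y hxy
    refine Subtype.ext ?_
    rw [← (hxs x.2).2.2.2, ← (hxs y.2).2.2.2, hxy]
  have hσs : ∀ (a : A) (x : Kr), conjOp (a : LinearMap.GeneralLinearGroup (ZMod p) V) ((x : Module.End (ZMod p) V) * s) =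
      ((σ a x * c a : Kr) : Module.End (ZMod p) V) * s := by
    intro a x
    rw [conjOp_mul, ← hcs a, ← mul_assoc]
    rfl
  have hcoc : ∀ a b : A, c (a * b) = σ a (c b) * c a := by
    intro a b
    refine hcancel _ _ ?_
    rw [← hσs, hcs, hcs, conjOp_conjOp]
    rfl
  have hinv : ∀ x : Kr, x ≠ 0 → ∃ y : Kr, x * y = 1 := by
    intro x hx
    obtain ⟨y, hy, hxy, -⟩ := hf.kSet_invIn h x x.2 (fun e => hx (Subtype.ext e))
    exact ⟨⟨y, hy⟩, Subtype.ext hxy⟩
  haveI : Nontrivial Kr := ⟨⟨1, 0, fun e => h.left.ne_zero hmr (by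
    rw [← one_mul s, show (1 : Module.End (ZMod p) V) = 0 from congrArg Subtype.val e, zero_mul])⟩⟩
  have hunit : ∀ x : Kr, x ≠ 0 → IsUnit x := fun x hx => by
    obtain ⟨y, hy⟩ := hinv x hx
    exact IsUnit.of_mul_eq_one _ hy
  have hc0 : ∀ a, c a ≠ 0 := by
    intro a e
    have := hcs a
    rw [show (c a : Module.End (ZMod p) V) = 0 from congrArg Subtype.val e, zero_mul] at this
    exact conjOp_ne (h.left.ne_zero hmr) this.symm
  -- the exponent
  have hexp : ∀ x : Kr, x ≠ 0 → x ^ Nat.card G = 1 := by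
    intro x hx
    obtain ⟨y, hxy⟩ := hinv x hx
    have hxy' : (x : Module.End (ZMod p) V) * y = 1 := congrArg Subtype.val hxy
    have hyx' : (y : Module.End (ZMod p) V) * x = 1 := by rw [← hcomm x.2 y.2]; exact hxy'
    have hw : ∀ x y : Kr, (x : Module.End (ZMod p) V) * y = 1 → ∃ g ∈ G,
        (g : Module.End (ZMod p) V) = (x : Module.End (ZMod p) V) * s - (y : Module.End (ZMod p) V) * q := by
      intro x y hxy
      have h1 := (hxs x.2).1
      have h2 : -((y : Module.End (ZMod p) V) * q) ∈ Cls G q := by simpa using Cls.smul (hyq y.2) (-1)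
      refine ⟨expU ((x : Module.End (ZMod p) V) * s) * expU (-((y : Module.End (ZMod p) V) * q)) *
        expU ((x : Module.End (ZMod p) V) * s), G.mul_mem (G.mul_mem (expU_mem h1.2.1 h1.1) (expU_mem h2.2.1 h2.1))
          (expU_mem h1.2.1 h1.1), ?_⟩
      rw [Units.val_mul, Units.val_mul, expU_val h1.1, expU_val h2.1]
      have u1 : (x : Module.End (ZMod p) V) * s * ((y : Module.End (ZMod p) V) * q) = s * q := by
        rw [mul_assoc, ← mul_assoc s, (hxs y.2).2.1, mul_assoc (y : Module.End (ZMod p) V), ← mul_assoc, hxy, one_mul]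
      have u2 : (y : Module.End (ZMod p) V) * q * ((x : Module.End (ZMod p) V) * s) = q * s := by
        rw [mul_assoc, ← mul_assoc q, ← (hxs x.2).2.2.1, mul_assoc (x : Module.End (ZMod p) V), ← mul_assoc,
          ← hcomm x.2 y.2, hxy, one_mul]
      have u3 : (x : Module.End (ZMod p) V) * s * ((y : Module.End (ZMod p) V) * q) * ((x : Module.End (ZMod p) V) * s) =
          (x : Module.End (ZMod p) V) * s := by
        rw [u1, ← mul_assoc, mul_assoc s q, ← (hxs x.2).2.2.1, ← mul_assoc s, (hxs x.2).2.1, mul_assoc _ s q,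
          mul_assoc, h.sqs]
      calc _ = (1 + ((x : Module.End (ZMod p) V) * s + (x : Module.End (ZMod p) V) * s)
            + (x : Module.End (ZMod p) V) * s * ((x : Module.End (ZMod p) V) * s))
            - (y : Module.End (ZMod p) V) * q
            - ((x : Module.End (ZMod p) V) * s * ((y : Module.End (ZMod p) V) * q) +
              (y : Module.End (ZMod p) V) * q * ((x : Module.End (ZMod p) V) * s))
            - (x : Module.End (ZMod p) V) * s * ((y : Module.End (ZMod p) V) * q) * ((x : Module.End (ZMod p) V) * s) := by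
              noncomm_ring
        _ = _ := by rw [u3, u1, u2, e1, h1.1]; abel
    obtain ⟨g, hg, hgv⟩ := hw x y hxy'
    obtain ⟨g1, hg1, hg1v⟩ := hw (-1) (-1) (by simp)
    have hz : ((g * g1 : LinearMap.GeneralLinearGroup (ZMod p) V) : Module.End (ZMod p) V) =
        (x : Module.End (ZMod p) V) * (s * q) + (y : Module.End (ZMod p) V) * (q * s) := by
      rw [Units.val_mul, hgv, hg1v]
      simp [mul_add, sub_mul, mul_assoc, h.left.sq, h.right.sq]
      abel
    have hpow : ∀ n : ℕ, (((g * g1) ^ n : LinearMap.GeneralLinearGroup (ZMod p) V) : Module.End (ZMod p) V) * s =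
        ((x ^ n : Kr) : Module.End (ZMod p) V) * s := by
      intro n
      induction n with
      | zero => simp
      | succ n ih =>
        rw [pow_succ', Units.val_mul, mul_assoc, ih, hz, add_mul, pow_succ', Subring.coe_mul,
          ← (hxs (x ^ n).2).2.1, mul_assoc (x : Module.End (ZMod p) V) (s * q), ← mul_assoc (s * q) s,
          h.sqs, mul_assoc (y : Module.End (ZMod p) V) (q * s), ← mul_assoc (q * s) s, mul_assoc q s s,
          h.left.sq, mul_zero, zero_mul, mul_zero, add_zero, (hxs (x ^ n).2).2.1, mul_assoc]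
    refine hcancel _ _ ?_
    rw [← hpow, show (g * g1) ^ Nat.card G = 1 from congrArg Subtype.val
      (pow_card_eq_one' (x := (⟨g * g1, G.mul_mem hg hg1⟩ : G)))]
    simp
  -- averaging
  haveI := Fintype.ofFinite A
  set m := Fintype.card A with hm
  set μ0 : Kr := ∏ b, c b with hμ0
  have hav : ∀ a : A, σ a μ0 * c a ^ m = μ0 := by
    intro a
    rw [hμ0, map_prod, hm, ← Finset.card_univ, ← Finset.prod_const, ← Finset.prod_mul_distrib]
    exact Fintype.prod_equiv (Equiv.mulLeft a) _ _ (fun b => (hcoc a b).symm)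
  obtain ⟨l, -, hl⟩ : ∃ l, l < Nat.card G + 1 ∧ m * l ≡ 1 [MOD Nat.card G] := by
    have hco : Nat.Coprime m (Nat.card G) := by rw [hm, ← Nat.card_eq_fintype_card]; exact hcop
    rcases Nat.lt_or_ge 1 (Nat.card G) with h1 | h1
    · obtain ⟨l, hlt, hl⟩ := Nat.exists_mul_mod_eq_one_of_coprime hco h1
      exact ⟨l, by omega, by rw [Nat.ModEq, hl, Nat.mod_eq_of_lt h1]⟩
    · have : Nat.card G = 1 := le_antisymm h1 Nat.card_pos
      exact ⟨0, by omega, by rw [this]; exact Nat.modEq_one⟩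
  have hμu : IsUnit (μ0 ^ l) := (IsUnit.prod_iff.2 fun b _ => hunit _ (hc0 b)).pow l
  set μ := μ0 ^ l with hμ
  have hfixμ : ∀ a : A, σ a μ * c a = μ := by
    intro a
    have e := congrArg (· ^ l) (hav a)
    simp only [mul_pow, ← map_pow, ← pow_mul] at e
    have hcm : c a ^ (m * l) = c a ^ 1 :=
      pow_eq_pow_of_modEq hl (hexp _ (hc0 a))
    rwa [hcm, pow_one] at e
  obtain ⟨ν, hν⟩ := hμu.exists_right_inv
  have hμν : (μ : Module.End (ZMod p) V) * ν = 1 := congrArg Subtype.val hν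
  set s0 := (μ : Module.End (ZMod p) V) * s with hs0
  set q0 := (ν : Module.End (ZMod p) V) * q with hq0
  have hsc := (hxs μ.2).1
  have hqc := hyq ν.2
  have hsq : s0 * q0 = s * q := by
    rw [hs0, hq0, mul_assoc, ← mul_assoc s, (hxs ν.2).2.1, mul_assoc (ν : Module.End (ZMod p) V), ← mul_assoc, hμν, one_mul]
  have hqs : q0 * s0 = q * s := by
    rw [hs0, hq0, mul_assoc, ← mul_assoc q, ← (hxs μ.2).2.2.1, mul_assoc (μ : Module.End (ZMod p) V), ← mul_assoc,
      ← hcomm μ.2 ν.2, hμν, one_mul]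
  have hne : s0 ≠ 0 := fun e => by
    have h1 : μ = 0 := hcancel μ 0 (by
      show s0 = _
      rw [e]; simp)
    exact hμu.ne_zero h1
  have hpair : Pair G s0 q0 := by
    refine ⟨hsc.1, hqc.1, ?_, ?_, hne, hsc.2.1, hqc.2.1⟩
    · rw [hsq, hs0, mul_assoc, ← mul_assoc q, ← (hxs μ.2).2.2.1, ← mul_assoc s, ← mul_assoc s, (hxs μ.2).2.1,
        mul_assoc _ s q, mul_assoc, h.sqs]
    · rw [hqs, hq0, mul_assoc, ← mul_assoc s, (hxs ν.2).2.1, mul_assoc _ s q, ← mul_assoc q, ← (hxs ν.2).2.2.1,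
        mul_assoc, ← mul_assoc q, h.qsq]
  refine ⟨s0, q0, hpair, fun a ha => ?_⟩
  have hA : conjOp a s0 = s0 := by
    rw [hs0, hσs ⟨a, ha⟩ μ, hfixμ]
  refine ⟨hA, ?_⟩
  have hc1 := hcl h.right hfq a ha q0 hqc
  set q1 := conjOp a q0 with hq1
  have f1 : s0 * q0 + q0 * s0 = 1 := by rw [hsq, hqs, e1]
  have hq1p : q1 * s0 * q1 = q1 := by
    rw [hq1]
    nth_rewrite 1 [← hA]
    rw [← conjOp_mul, ← conjOp_mul, hpair.qsq]
  have f2 : s0 * q1 + q1 * s0 = 1 := by
    rw [hq1, ← hA, ← conjOp_mul, ← conjOp_mul, ← conjOp_add, f1, conjOp_one]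
  have z1 := Cls.mul_eq_zero h.right.sq hqc hc1
  have z2 := Cls.mul_eq_zero h.right.sq hc1 hqc
  calc q1 = (s0 * q0 + q0 * s0) * q1 := by rw [f1, one_mul]
    _ = q0 * (s0 * q1) := by rw [add_mul, mul_assoc s0, z1, mul_zero, zero_add, mul_assoc]
    _ = q0 * (1 - q1 * s0) := by rw [eq_sub_of_add_eq f2]
    _ = q0 := by rw [mul_sub, mul_one, ← mul_assoc, z1, zero_mul, sub_zero]

end CfsgLib.PLocal.ZJCoprime
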