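import Cfsg.Agent.Lib.PLocal.ZJCoprime.Pairs

/-!
# Quadratic groups in which every opposite pair has full support

Roots with nilpotent product have the same image, opposites of a root are conjugate by root elements.
-/

set_option autoImplicit false

namespace CfsgLib.PLocal.ZJCoprime

open Cfsg CfsgLib.QuadPair Subgroup Matrix

variable {p : ℕ} [Fact p.Prime] {V : Type} [AddCommGroup V] [Module (ZMod p) V]

/-- Every root has an opposite and every opposite pair has support `V`. -/
structure Full (G : Subgroup (LinearMap.GeneralLinearGroup (ZMod p) V)) (d : ℕ) : Prop where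
  hp5 : 5 ≤ p
  minRank : MinRank G d
  opp : ∀ s, Root G d s → ∃ q, Opp G d s q
  full : ∀ s q, Opp G d s q → s * q + q * s = 1

variable {G : Subgroup (LinearMap.GeneralLinearGroup (ZMod p) V)} {d : ℕ}
variable {s t u q q' : Module.End (ZMod p) V} [FiniteDimensional (ZMod p) V]

theorem Full.ker_eq (hf : Full G d) (hs : Root G d s) : LinearMap.ker s = LinearMap.range s := by
  refine le_antisymm (fun v hv => ?_) (mul_eq_zero_iff.1 hs.sq)
  obtain ⟨q, hq⟩ := hf.opp s hs
  have h := LinearMap.congr_fun (hf.full s q hq) v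
  rw [LinearMap.add_apply, Module.End.mul_apply, Module.End.mul_apply, LinearMap.mem_ker.1 hv, map_zero,
    add_zero, Module.End.one_apply] at h
  exact ⟨q v, h⟩

theorem Full.finrank_eq (hf : Full G d) (hs : Root G d s) : Module.finrank (ZMod p) V = 2 * d := by
  have h1 := finrank_ker_add s
  rw [hf.ker_eq hs] at h1
  have : Module.finrank (ZMod p) ↥(LinearMap.range s) = d := hs.rank
  rw [hs.rank, this] at h1
  omega

theorem Full.mul_eq_zero_of_range (hf : Full G d) (hs : Root G d s) (_ht : Root G d t)
    (h : LinearMap.range t = LinearMap.range s) : s * t = 0 :=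
  mul_eq_zero_iff.2 (by rw [h, hf.ker_eq hs])

theorem Full.nil_of_range (hf : Full G d) (hs : Root G d s) (ht : Root G d t)
    (h : LinearMap.range t = LinearMap.range s) : IsNilpotent (t * s) :=
  ⟨1, by rw [pow_one, hf.mul_eq_zero_of_range ht hs h.symm]⟩

theorem Full.nonnil (hf : Full G d) (hs : Root G d s) (ht : Root G d t) :
    ¬ IsNilpotent (t * s) ↔ LinearMap.range s ⊓ LinearMap.range t = ⊥ := by
  rw [nonnil_iff hf.minRank (two_ne hf.hp5) (card_ne_three hf.hp5) hs ht, hf.ker_eq ht, hf.ker_eq hs,
    inf_comm (LinearMap.range t)]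
  exact and_self_iff

theorem Full.exists_opp (hf : Full G d) (hs : Root G d s) (ht : Root G d t)
    (h : ¬ IsNilpotent (t * s)) : ∃ q, Opp G d s q ∧ LinearMap.range q = LinearMap.range t := by
  obtain ⟨q, hq, ho⟩ := CfsgLib.QuadPair.exists_opp hf.minRank (two_ne hf.hp5) (card_ne_three hf.hp5) hs ht h
  exact ⟨q, ho, (Cls.root hf.minRank ht hq (ho.right.ne_zero hf.minRank)).2.1⟩

theorem Full.commute_of_nil (hf : Full G d) (hs : Root G d s) (ht : Root G d t)
    (hnil : IsNilpotent (t * s)) : s * t = t * s ∧ s * t * s = 0 ∧ t * s * t = 0 := by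
  obtain ⟨h1, h2, h3⟩ := unip hf.minRank (two_ne hf.hp5) hs ht hnil
  refine ⟨?_, h2, h1⟩
  by_contra hne
  set x := s * t - t * s with hxdef
  have hx0 : x ≠ 0 := sub_ne_zero.2 hne
  have hxx : x * x = 0 := by
    rw [hxdef]
    linear_combination (norm := noncomm_ring) h2 * t + h1 * s - s * ht.sq * s - t * hs.sq * t
  have hge := hf.minRank.min x hxx h3 hx0
  have hle : rk x ≤ d := by
    have e1 := finrank_ker_add x
    have e2 : Module.finrank (ZMod p) ↥(LinearMap.range x) ≤ Module.finrank (ZMod p) ↥(LinearMap.ker x) :=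
      Submodule.finrank_mono (mul_eq_zero_iff.1 hxx)
    have := hf.finrank_eq hs
    change rk x ≤ _ at e2
    omega
  have hxr : Root G d x := ⟨hxx, h3, le_antisymm hle hge⟩
  have hk := hf.ker_eq hxr
  have hxs : x * s = 0 := by
    rw [hxdef]; linear_combination (norm := noncomm_ring) h2 - t * hs.sq
  have hxt : x * t = 0 := by
    rw [hxdef]; linear_combination (norm := noncomm_ring) s * ht.sq - h1
  have r1 : LinearMap.range s = LinearMap.range x :=
    range_eq_of_le (hk ▸ mul_eq_zero_iff.1 hxs) (by rw [hs.rank, hxr.rank])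
  have r2 : LinearMap.range t = LinearMap.range x :=
    range_eq_of_le (hk ▸ mul_eq_zero_iff.1 hxt) (by rw [ht.rank, hxr.rank])
  exact hne ((hf.mul_eq_zero_of_range hs ht (r2.trans r1.symm)).trans
    (hf.mul_eq_zero_of_range ht hs (r1.trans r2.symm)).symm)

/-- A root commuting with `s` and opposite to an opposite of `s` has the image of `s`. -/
theorem Full.range_eq_of_commute (hf : Full G d) (ho : Opp G d s q) (ht : Root G d t)
    (hnil : IsNilpotent (t * s)) (hne : ¬ IsNilpotent (t * q)) :
    LinearMap.range t = LinearMap.range s := by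
  obtain ⟨t', ht', hr⟩ := hf.exists_opp ho.right ht hne
  have hnil' : IsNilpotent (t' * s) := by
    by_contra hc
    rw [hf.nonnil ho.left ht'.right, hr, ← hf.nonnil ho.left ht] at hc
    exact hc hnil
  obtain ⟨c1, c2, c3⟩ := hf.commute_of_nil ho.left ht'.right hnil'
  have e1 := hf.full _ _ ho
  have e2 := hf.full _ _ ht'
  set w := t' * s with hw
  have hz1 : s * w = 0 := by rw [hw, ← mul_assoc, c2]
  have hz2 : w * s = 0 := by rw [hw, mul_assoc, ho.left.sq, mul_zero]
  have a1 : s = q * w + t' * q * s := by
    calc s = (q * t' + t' * q) * s := by rw [e2, one_mul]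
      _ = _ := by rw [hw, add_mul, mul_assoc q]
  have hD : s - t' = q * w - w * q := by
    have b1 : t' * q * s = t' - w * q := by
      rw [hw, mul_assoc t' q s, eq_sub_of_add_eq' e1, mul_sub, mul_one, mul_assoc t' s q]
    calc s - t' = q * w + t' * q * s - t' := by rw [← a1]
      _ = _ := by rw [b1]; abel
  have h0 : w = 0 := by
    have h := congrArg (fun x => s * x) hD
    simp only [mul_sub] at h
    rw [ho.left.sq, c1, ← mul_assoc s w q, hz1, zero_mul, sub_zero, zero_sub, ← mul_assoc,
      eq_sub_of_add_eq e1, sub_mul, one_mul, mul_assoc, hz1, mul_zero, sub_zero] at h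
    have : (2 : ZMod p) • w = 0 := by rw [two_smul]; nth_rewrite 1 [← h]; rw [hw]; abel
    exact (smul_eq_zero.1 this).resolve_left (two_ne hf.hp5)
  rw [h0, mul_zero, zero_mul, sub_zero, sub_eq_zero] at hD
  rw [← hr, hD]

/-- The root elements generate. -/
def Generated (G : Subgroup (LinearMap.GeneralLinearGroup (ZMod p) V)) (d : ℕ) : Prop :=
  ∀ s, Root G d s → ∀ K : Subgroup (LinearMap.GeneralLinearGroup (ZMod p) V), K ≤ G → expU s ∈ K →
    G ≤ normalizer (K : Set (LinearMap.GeneralLinearGroup (ZMod p) V)) → K = G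

/-- No normal `p`-subgroup. -/
def NoCore (G : Subgroup (LinearMap.GeneralLinearGroup (ZMod p) V)) : Prop :=
  ∀ N ≤ G, G ≤ normalizer (N : Set (LinearMap.GeneralLinearGroup (ZMod p) V)) → IsPGroup p N → N = ⊥

/-- The root elements. -/
def rootElts (G : Subgroup (LinearMap.GeneralLinearGroup (ZMod p) V)) (d : ℕ) :
    Set (LinearMap.GeneralLinearGroup (ZMod p) V) :=
  {g | ∃ t, Root G d t ∧ g = expU t}

theorem rootElts_closure (hgen : Generated G d) (hs : Root G d s) :
    Subgroup.closure (rootElts G d) = G := by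
  refine hgen s hs _ ((closure_le _).2 ?_) (subset_closure ⟨s, hs, rfl⟩) ?_
  · rintro g ⟨t, ht, rfl⟩
    exact expU_mem ht.fam ht.sq
  · intro g hg
    rw [mem_normalizer_iff]
    have key : ∀ g ∈ G, ∀ h, h ∈ Subgroup.closure (rootElts G d) →
        g * h * g⁻¹ ∈ Subgroup.closure (rootElts G d) := by
      intro g hg h hh
      have hle : Subgroup.closure (rootElts G d) ≤
          (Subgroup.closure (rootElts G d)).comap (MulAut.conj g).toMonoidHom := by
        rw [closure_le]
        rintro _ ⟨t, ht, rfl⟩
        exact subset_closure ⟨conjOp g t, ht.conj hg, (expU_conj g ht.sq).symm⟩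
      exact hle hh
    refine fun h => ⟨key g hg h, fun hh => ?_⟩
    have := key g⁻¹ (G.inv_mem hg) _ hh
    simpa [mul_assoc] using this

theorem Full.range_eq_of_nil (hf : Full G d) (hgen : Generated G d) (hcore : NoCore G)
    (hs : Root G d s) (ht : Root G d t) (hnil : IsNilpotent (t * s)) :
    LinearMap.range t = LinearMap.range s := by
  by_contra hne
  let E : Module.End (ZMod p) V → Module.End (ZMod p) V → Prop :=
    fun a b => Root G d a ∧ Root G d b ∧ ¬ IsNilpotent (b * a)
  have hE : ∀ {a b}, E a b → E b a := fun ⟨ha, hb, h⟩ => ⟨hb, ha, fun h' => h (isNilpotent_swap h')⟩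
  let Comp := fun a => Relation.ReflTransGen E s a
  have hroot : ∀ a, Comp a → Root G d a := by
    intro a ha
    induction ha with
    | refl => exact hs
    | tail _ h _ => exact h.2.1
  have hP : ∀ a, Comp a → IsNilpotent (t * a) ∧ LinearMap.range t ≠ LinearMap.range a := by
    intro a ha
    induction ha with
    | refl => exact ⟨hnil, hne⟩
    | @tail a b _ h ih =>
      obtain ⟨q, hq, hr⟩ := hf.exists_opp h.1 h.2.1 h.2.2
      have hn : IsNilpotent (t * b) := by
        by_contra hc
        refine ih.2 (hf.range_eq_of_commute hq ht ih.1 ?_)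
        rw [hf.nonnil hq.right ht, hr, ← hf.nonnil h.2.1 ht]
        exact hc
      refine ⟨hn, fun e => ?_⟩
      have : ¬ IsNilpotent (t * a) := by
        rw [hf.nonnil h.1 ht, e, ← hf.nonnil h.1 h.2.1]
        exact h.2.2
      exact this ih.1
  set K := Subgroup.closure {g | ∃ a, Comp a ∧ g = expU a} with hK
  have hKG : K ≤ G := (closure_le _).2 (by
    rintro g ⟨a, ha, rfl⟩; exact expU_mem (hroot a ha).fam (hroot a ha).sq)
  have hcomm : ∀ {a b}, Root G d a → Root G d b → IsNilpotent (b * a) →
      expU a * expU b = expU b * expU a := by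
    intro a b ha hb h
    refine Units.ext ?_
    rw [Units.val_mul, Units.val_mul, expU_val ha.sq, expU_val hb.sq]
    linear_combination (norm := noncomm_ring) (hf.commute_of_nil ha hb h).1
  have hnorm : G ≤ normalizer (K : Set _) := by
    rw [← rootElts_closure hgen hs, closure_le]
    rintro _ ⟨w, hw, rfl⟩
    have hwG := expU_mem hw.fam hw.sq
    have hconjE : ∀ {g}, g ∈ G → ∀ {a b}, E a b → E (conjOp g a) (conjOp g b) := by
      intro g hg a b h
      refine ⟨h.1.conj hg, h.2.1.conj hg, fun hn => h.2.2 ?_⟩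
      obtain ⟨n, hn⟩ := hn
      refine ⟨n, ?_⟩
      have := congrArg (conjOp g⁻¹) hn
      rw [conjOp_zero, ← conjOp_mul] at this
      have hpow : ∀ m : ℕ, conjOp g⁻¹ (conjOp g (b * a) ^ m) = (b * a) ^ m := by
        intro m
        induction m with
        | zero => simp [conjOp_one]
        | succ m ih => rw [pow_succ, conjOp_mul, ih, conjOp_conjOp, inv_mul_cancel, conjOp_id, pow_succ]
      rwa [hpow] at this
    have key : ∀ g, (g = expU w ∨ g = (expU w)⁻¹) → ∀ h ∈ K, g * h * g⁻¹ ∈ K := by
      intro g hg h hh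
      have hgG : g ∈ G := by rcases hg with rfl | rfl; exacts [hwG, G.inv_mem hwG]
      have hle : K ≤ K.comap (MulAut.conj g).toMonoidHom := by
        rw [hK, closure_le]
        rintro _ ⟨a, ha, rfl⟩
        show g * expU a * g⁻¹ ∈ Subgroup.closure _
        by_cases hcw : Comp w
        · have hfix : conjOp g w = w := by
            rw [conjOp_eq_self]
            rcases hg with rfl | rfl
            · rw [expU_val hw.sq]; simp [add_mul, mul_add, hw.sq]
            · have : (((expU w)⁻¹ : LinearMap.GeneralLinearGroup (ZMod p) V) : Module.End (ZMod p) V) = 1 - w :=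
                Units.inv_eq_of_mul_eq_one_right (by rw [expU_val hw.sq]; simp [add_mul, mul_sub, hw.sq])
              rw [this]; simp [sub_mul, mul_sub, hw.sq]
          have hmap : ∀ {b c}, Relation.ReflTransGen E b c →
              Relation.ReflTransGen E (conjOp g b) (conjOp g c) := by
            intro b c h
            induction h with
            | refl => exact .refl
            | tail _ h ih => exact ih.tail (hconjE hgG h)
          have hsymm : ∀ {b c}, Relation.ReflTransGen E b c → Relation.ReflTransGen E c b := by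
            intro b c h
            induction h with
            | refl => exact .refl
            | tail _ h ih => exact (Relation.ReflTransGen.single (hE h)).trans ih
          refine subset_closure ⟨conjOp g a, ?_, (expU_conj g (hroot a ha).sq).symm⟩
          have h1 := hmap hcw
          rw [hfix] at h1
          exact hcw.trans ((hsymm h1).trans (hmap ha))
        · have hn : IsNilpotent (w * a) := by
            by_contra hc
            exact hcw (ha.tail ⟨hroot a ha, hw, hc⟩)
          have e := hcomm (hroot a ha) hw hn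
          have : g * expU a * g⁻¹ = expU a := by
            rcases hg with rfl | rfl
            · rw [← e, mul_inv_cancel_right]
            · rw [inv_inv, mul_assoc, e, inv_mul_cancel_left]
          rw [this]
          exact subset_closure ⟨a, ha, rfl⟩
      exact hle hh
    rw [SetLike.mem_coe, mem_normalizer_iff]
    refine fun h => ⟨key _ (Or.inl rfl) h, fun hh => ?_⟩
    have := key _ (Or.inr rfl) _ hh
    simpa [mul_assoc] using this
  have hKeq : K = G := hgen s hs K hKG (subset_closure ⟨s, Relation.ReflTransGen.refl, rfl⟩) hnorm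
  have hcent : G ≤ Subgroup.centralizer {expU t} := by
    rw [← hKeq, hK, closure_le]
    rintro _ ⟨a, ha, rfl⟩
    rw [SetLike.mem_coe, mem_centralizer_singleton_iff]
    exact (hcomm (hroot a ha) ht (hP a ha).1)
  have hbot := hcore (zpowers (expU t)) (zpowers_le.2 (expU_mem ht.fam ht.sq)) (by
      rw [zpowers_eq_closure]
      exact hcent.trans (by rw [← centralizer_closure]; exact centralizer_le_normalizer _))
    (fun ⟨g, hg⟩ => ⟨1, Subtype.ext (by
      obtain ⟨n, rfl⟩ := mem_zpowers_iff.1 hg
      rw [pow_one, SubgroupClass.coe_pow, OneMemClass.coe_one]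
      rw [← _root_.zpow_natCast, ← _root_.zpow_mul, mul_comm, _root_.zpow_mul, _root_.zpow_natCast,
        expU_pow_p ht.sq, _root_.one_zpow])⟩)
  have : expU t = 1 := by rw [← mem_bot, ← hbot]; exact mem_zpowers _
  exact ht.ne_zero hf.minRank (by rw [← op_expU ht.sq, this, op_eq_zero])

/-- Opposites of a root are conjugate by a root element of its class. -/
theorem Full.exists_move (hf : Full G d) (h : Opp G d s q) (h' : Opp G d s q') :
    s * (q - q') ∈ Cls G s ∧ conjOp (expU (s * (q - q'))) q = q' := by
  set e := s * (q - q') with he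
  have e1 := hf.full _ _ h
  have e2 := hf.full _ _ h'
  have hee : e * e = 0 := by
    rw [he]; linear_combination (norm := noncomm_ring)
      h.sqs * (q - q') - h'.sqs * (q - q')
  have hqs : q * s = 1 - s * q := eq_sub_of_add_eq' e1
  have hq's : q' * s = 1 - s * q' := eq_sub_of_add_eq' e2
  have p1 := Pair.of_opp hf.minRank h
  have p2 := Pair.of_opp hf.minRank h'
  have h2 := two_ne (p := p) hf.hp5
  have hab : (2 : ZMod p) * (-2⁻¹) = -1 := by rw [mul_neg, mul_inv_cancel₀ h2]
  set D := dia (2 : ZMod p) (-2⁻¹) with hDdef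
  have hval : ∀ (r : Module.End (ZMod p) V) (pr : Pair G s r),
      (pr.rho D : Module.End (ZMod p) V) =
        1 - (s * r + r * s) + ((2 : ZMod p) • (s * r) + (2 : ZMod p)⁻¹ • (r * s)) := by
    intro r pr
    rw [pr.rho_val, hDdef, dia_coe hab]
    simp
  have hinv : ((p1.rho D)⁻¹ : LinearMap.GeneralLinearGroup (ZMod p) V) = p1.rho D⁻¹ := (map_inv _ _).symm
  have hval' : (((p1.rho D)⁻¹ : LinearMap.GeneralLinearGroup (ZMod p) V) : Module.End (ZMod p) V) =
      1 - (s * q + q * s) + ((2 : ZMod p)⁻¹ • (s * q) + (2 : ZMod p) • (q * s)) := by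
    rw [hinv, p1.rho_val, hDdef, mat_inv, dia_coe hab, Matrix.adjugate_fin_two]
    simp
  have hmem : p2.rho D * (p1.rho D)⁻¹ ∈ G :=
    G.mul_mem (p2.rho_mem hf.hp5 _) (G.inv_mem (p1.rho_mem hf.hp5 _))
  have hv : ((p2.rho D * (p1.rho D)⁻¹ : LinearMap.GeneralLinearGroup (ZMod p) V) : Module.End (ZMod p) V) =
      1 + (-3 : ZMod p) • e := by
    rw [Units.val_mul, hval, hval', e1, e2, sub_self, zero_add, zero_add, hqs, hq's, he]
    have hPP : s * q' * (s * q) = s * q := by rw [← mul_assoc, h'.sqs]
    simp only [mul_sub, add_mul, mul_add, sub_mul, smul_sub, smul_mul_assoc, mul_smul_comm, one_mul,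
      mul_one, smul_smul, hPP]
    match_scalars <;> field_simp <;> ring
  have hfam : Fam G e := by
    refine Fam.of_smul (neg_ne_zero.2 (three_ne (p := p) hf.hp5)) ?_
    have hsq : ((-3 : ZMod p) • e) * ((-3 : ZMod p) • e) = 0 := by
      rw [smul_mul_assoc, mul_smul_comm, hee, smul_zero, smul_zero]
    refine fam_of_expU_mem hsq ?_
    rwa [show expU ((-3 : ZMod p) • e) = p2.rho D * (p1.rho D)⁻¹ from
      Units.ext (by rw [expU_val hsq, hv])]
  refine ⟨⟨hee, hfam, range_mul_le _ _, ?_⟩, ?_⟩
  · rw [hf.ker_eq h.left]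
    rintro v ⟨w, rfl⟩
    rw [LinearMap.mem_ker, he, ← Module.End.mul_apply, mul_assoc, sub_mul, hqs, hq's, sub_sub_sub_cancel_left,
      mul_sub, ← mul_assoc, ← mul_assoc, h.left.sq, zero_mul, zero_mul, sub_zero, LinearMap.zero_apply]
  · have hi : (((expU e)⁻¹ : LinearMap.GeneralLinearGroup (ZMod p) V) : Module.End (ZMod p) V) = 1 - e :=
      Units.inv_eq_of_mul_eq_one_right (by rw [expU_val hee]; simp [add_mul, mul_sub, hee])
    rw [conjOp, expU_val hee, hi]
    have eq1 : e * q = -(s * q' * q) := by
      rw [he, mul_assoc, sub_mul, h.right.sq, zero_sub, mul_neg, mul_assoc]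
    have eq2 : q * e = q - q' + s * q * q' := by
      calc q * e = q * s * q - q * s * q' := by rw [he, mul_sub, mul_sub, mul_assoc, mul_assoc]
        _ = _ := by rw [h.qsq, hqs, sub_mul, one_mul]; abel
    have eq3 : e * q * e = -(s * q' * q) - s * q * q' := by
      calc e * q * e = -(s * q' * (q * e)) := by rw [eq1, neg_mul, mul_assoc (s * q') q e]
        _ = -(s * q' * q) + s * q' * q' - s * q' * s * q * q' := by
          rw [eq2]; simp only [mul_add, mul_sub, ← mul_assoc]; abel
        _ = _ := by rw [mul_assoc s q' q', h'.right.sq, mul_zero, h'.sqs, add_zero]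
    calc (1 + e) * q * (1 - e) = q + e * q - q * e - e * q * e := by noncomm_ring
      _ = q' := by rw [eq3, eq1, eq2]; abel

end CfsgLib.PLocal.ZJCoprime
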