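import Cfsg.Agent.Lib.PLocal.ZJCoprime.Linear

/-!
# The induction
-/

set_option autoImplicit false

namespace CfsgLib.PLocal.ZJCoprime

open Cfsg CfsgLib.QuadPair Subgroup Matrix

variable {p : ℕ} [Fact p.Prime]

theorem claim (hp5 : 5 ≤ p) : ∀ n, Claim p n := by
  intro n
  induction n with
  | zero => intro V _ _ _ H A hn; omega
  | succ n ih =>
    intro V _ _ _ H A hn hAn hcop hex
    obtain ⟨s, q, hp⟩ := hex
    classical
    haveI := finite_gl (p := p) (V := V)
    haveI := finite_end (p := p) (V := V)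
    by_contra hgoal
    have irr : ∀ W : Submodule (ZMod p) V, (∀ g ∈ H ⊔ A, ∀ w ∈ W, (g : Module.End (ZMod p) V) w ∈ W) →
        W = ⊥ ∨ W = ⊤ := by
      intro W hW
      by_contra hcon
      push Not at hcon
      exact hgoal (reduce_subspace ih (by omega) hAn hcop hp hcon.1 hcon.2 hW)
    -- no normal `p`-subgroup
    set O := (Cfsg.pCore p H).map H.subtype with hO
    have hOn : H ⊔ A ≤ normalizer (O : Set _) :=
      sup_le (le_normalizer.trans (normalizer_le_pCore_map (p := p) H)) (hAn.trans (normalizer_le_pCore_map (p := p) H))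
    have hOp : IsPGroup p O := (Components.pCore_isPGroup (G := ↥H) (p := p)).map _
    let W : Submodule (ZMod p) V :=
      ⨅ g : O, LinearMap.ker (((g : LinearMap.GeneralLinearGroup (ZMod p) V) : Module.End (ZMod p) V) - 1)
    have hWmem : ∀ v, v ∈ W ↔ ∀ g ∈ O, (g : Module.End (ZMod p) V) v = v := fun v => by
      simp [W, sub_eq_zero]
    have hWinv : ∀ x ∈ H ⊔ A, ∀ w ∈ W, (x : Module.End (ZMod p) V) w ∈ W := by
      intro x hx w hw
      rw [hWmem] at hw ⊢
      intro g hg
      have := hw _ ((mem_normalizer_iff''.1 (hOn hx) g).1 hg)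
      rw [Units.val_mul, Units.val_mul, Module.End.mul_apply, Module.End.mul_apply] at this
      conv_rhs => rw [← this]
      rw [← Module.End.mul_apply (x : Module.End (ZMod p) V) (↑x⁻¹), ← Units.val_mul, mul_inv_cancel, Units.val_one,
        Module.End.one_apply]
    haveI : Finite V := Module.finite_of_finite (ZMod p)
    obtain ⟨v0, hv0⟩ : ∃ v : V, s v ≠ 0 := by
      by_contra hc
      push Not at hc
      exact hp.ne (LinearMap.ext hc)
    have hOfix : ∀ g ∈ O, ∀ v, (g : Module.End (ZMod p) V) v = v := by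
      rcases irr W hWinv with hW | hW
      · exfalso
        haveI : Nontrivial V := ⟨s v0, 0, hv0⟩
        have hdvd : p ∣ Nat.card V := by
          rw [Module.natCard_eq_pow_finrank (K := ZMod p), Nat.card_zmod]
          exact dvd_pow_self p (Module.finrank_pos).ne'
        letI : MulAction O V :=
          { smul := fun g v => ((g : LinearMap.GeneralLinearGroup (ZMod p) V) : Module.End (ZMod p) V) v
            one_smul := fun v => rfl
            mul_smul := fun g g' v => rfl }
        obtain ⟨b, hb, hb0⟩ := hOp.exists_fixed_point_of_prime_dvd_card_of_fixed_point V hdvd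
          (a := (0 : V)) (fun g => map_zero _)
        have : b ∈ W := (hWmem b).2 fun g hg => hb ⟨g, hg⟩
        rw [hW, Submodule.mem_bot] at this
        exact hb0 this.symm
      · exact fun g hg v => (hWmem v).1 (hW ▸ Submodule.mem_top) g hg
    have hcore : NoCore H := by
      intro N hN hNn hNp
      rw [eq_bot_iff]
      intro g hg
      rw [mem_bot]
      exact Units.ext (LinearMap.ext fun v => hOfix g (le_pCore_map hN hNn hNp hg) v)
    -- least rank
    have hexd : ∃ d, ∃ x : Module.End (ZMod p) V, x * x = 0 ∧ Fam H x ∧ x ≠ 0 ∧ rk x = d :=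
      ⟨_, s, hp.ss, hp.fs, hp.ne, rfl⟩
    set d := Nat.find hexd with hd
    obtain ⟨x₀, hx1, hx2, hx3, hx4⟩ := Nat.find_spec hexd
    have hm : MinRank H d := by
      refine ⟨?_, fun y h1 h2 h3 => Nat.find_min' hexd ⟨y, h1, h2, h3, rfl⟩⟩
      rw [hd, ← hx4, Nat.pos_iff_ne_zero]
      intro e
      exact hx3 (LinearMap.range_eq_bot.1 (Submodule.finrank_eq_zero.1 e))
    have hroot : Root H d x₀ := ⟨hx1, hx2, hx4⟩
    have hopp : ∀ t, Root H d t → ∃ u, Opp H d t u := fun t ht => exists_opp_of_root hp5 hcore hm ht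
    -- a smallest normal closure
    have hexM : ∃ m, ∃ t, Root H d t ∧ Nat.card (nc H t) = m := ⟨_, x₀, hroot, rfl⟩
    obtain ⟨s₁, hs₁, hM⟩ := Nat.find_spec hexM
    have hmin : ∀ t, Root H d t → Nat.card (nc H s₁) ≤ Nat.card (nc H t) := fun t ht => by
      rw [hM]; exact Nat.find_min' hexM ⟨t, ht, rfl⟩
    set M := nc H s₁ with hMdef
    have hMH : M ≤ H := (nc_le (expU_mem hs₁.fam hs₁.sq) le_normalizer (expU_mem hs₁.fam hs₁.sq)).2
    by_cases hMeq : M = H
    · have hgen : Generated H d := by
        intro t ht K hKH htK hKn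
        have h1 := nc_le (expU_mem ht.fam ht.sq) hKn htK
        have h2 : nc H t = H := Subgroup.eq_of_le_of_card_ge h1.2 (by
          have := hmin t ht; rw [hMeq] at this; exact this)
        exact le_antisymm hKH (h2 ▸ h1.1)
      have hsub : ∀ R : Set (LinearMap.GeneralLinearGroup (ZMod p) V), (∀ a ∈ A, ∀ r ∈ R, a * r * a⁻¹ ∈ R) →
          (∃ s q, Pair (H ⊓ centralizer R) s q) → H ≤ centralizer R := by
        intro R hR hex'
        by_contra hne
        set K := H ⊓ centralizer R with hK
        have hlt : K < H := lt_of_le_of_ne inf_le_left (fun e => hne (e ▸ inf_le_right))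
        have hcard : Nat.card K < Nat.card H :=
          Set.Finite.card_lt_card (Set.toFinite _) (SetLike.coe_ssubset_coe.2 hlt)
        have hAK : A ≤ normalizer (K : Set _) := by
          have key : ∀ a ∈ A, ∀ y ∈ K, a * y * a⁻¹ ∈ K := by
            intro a ha y hy
            refine ⟨(mem_normalizer_iff.1 (hAn ha) y).1 hy.1, mem_centralizer_iff.2 fun r hr => ?_⟩
            have hr' : a⁻¹ * r * a ∈ R := by simpa using hR a⁻¹ (A.inv_mem ha) r hr
            have := mem_centralizer_iff.1 hy.2 _ hr'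
            calc r * (a * y * a⁻¹) = a * ((a⁻¹ * r * a) * y) * a⁻¹ := by group
              _ = a * (y * (a⁻¹ * r * a)) * a⁻¹ := by rw [this]
              _ = _ := by group
          intro a ha
          rw [mem_normalizer_iff]
          refine fun y => ⟨key a ha y, fun hy => ?_⟩
          simpa [mul_assoc] using key a⁻¹ (A.inv_mem ha) _ hy
        exact hgoal ((ih V K A (by omega) hAK (hcop.coprime_dvd_right (card_dvd_of_le hlt.le)) hex').mono
          (inf_le_inf_right _ hlt.le))
      have hr : Red H A d := ⟨hp5, hAn, hcop, hcore, irr, hgen, hm, hopp, ⟨x₀, hroot⟩, hsub⟩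
      obtain ⟨s', q', ho', hf1⟩ := hr.exists_full
      have hdim := finrank_of_full hm ho' hf1
      have hf : Full H d := ⟨hp5, hm, hopp, fun t u h => full_of_finrank h hdim⟩
      obtain ⟨S, hSA⟩ := CfsgLib.Core.exists_invariant_sylow hAn hcop (solvable_or hcop) p
      set S0 := (S : Subgroup H).map H.subtype with hS0
      have hS0H : S0 ≤ H := map_subtype_le _
      have hS0p : IsPGroup p S0 := S.2.map _
      have hx0H : expU x₀ ∈ H := expU_mem hx2 hx1
      have hzp : IsPGroup p ↥(zpowers (⟨expU x₀, hx0H⟩ : H)) := fun ⟨g, hg⟩ => ⟨1, Subtype.ext (by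
        obtain ⟨i, rfl⟩ := mem_zpowers_iff.1 hg
        rw [pow_one, SubgroupClass.coe_pow, OneMemClass.coe_one]
        have e : (⟨expU x₀, hx0H⟩ : H) ^ p = 1 := Subtype.ext (expU_pow_p hx1)
        rw [← _root_.zpow_natCast, ← _root_.zpow_mul, mul_comm, _root_.zpow_mul, _root_.zpow_natCast, e,
          _root_.one_zpow])⟩
      obtain ⟨S1, hS1⟩ := hzp.exists_le_sylow
      obtain ⟨h, hh⟩ := MulAction.exists_smul_eq H S1 S
      set s2 := conjOp (h : LinearMap.GeneralLinearGroup (ZMod p) V) x₀ with hs2def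
      have hs2 : Root H d s2 := hroot.conj h.2
      have hs2S : expU s2 ∈ S0 := by
        refine ⟨h * ⟨expU x₀, hx0H⟩ * h⁻¹, ?_, (expU_conj _ hx1).symm⟩
        rw [← hh, Sylow.coe_subgroup_smul]
        exact ⟨⟨expU x₀, hx0H⟩, hS1 (mem_zpowers _), rfl⟩
      have hfix : ∀ a ∈ A, LinearMap.range (conjOp a s2) = LinearMap.range s2 := by
        intro a ha
        have hta : Root H d (conjOp a s2) :=
          ⟨conjOp_sq hs2.sq, fam_conj (hAn ha) hs2.fam, by rw [rk_conjOp, hs2.rank]⟩
        refine hf.range_eq_of_nil hgen hcore hs2 hta ?_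
        by_contra hnil
        have htaS : expU (conjOp a s2) ∈ S0 := by
          rw [expU_conj _ hs2.sq]; exact (mem_normalizer_iff.1 (hSA ha) _).1 hs2S
        have hmS : MinRank S0 d := ⟨hm.pos, fun y h1 h2 h3 => hm.min y h1 (fam_mono hS0H h2) h3⟩
        obtain ⟨u, -, hu⟩ := CfsgLib.QuadPair.exists_opp hmS (two_ne hp5) (card_ne_three hp5)
          (⟨hs2.sq, fam_of_expU_mem hs2.sq hs2S, hs2.rank⟩ : Root S0 d s2)
          (⟨hta.sq, fam_of_expU_mem hta.sq htaS, hta.rank⟩ : Root S0 d (conjOp a s2)) hnil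
        exact (Pair.of_opp hmS hu).not_isPGroup hp5 hS0p
      obtain ⟨s0, q0, hpair, hcentral⟩ := hf.exists_fixed_pair hAn hcop hs2 hfix
      have hcm : ∀ x : Module.End (ZMod p) V, x * x = 0 → (∀ a ∈ A, conjOp a x = x) →
          expU x ∈ centralizer (A : Set (LinearMap.GeneralLinearGroup (ZMod p) V)) := by
        intro x hxx hx
        refine mem_centralizer_iff.2 fun a ha => ?_
        have e := expU_conj a hxx
        rw [hx a ha] at e
        calc a * expU x = a * expU x * a⁻¹ * a := by group
          _ = expU x * a := by rw [← e]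
      exact hgoal ((hpair.of_mem (K := H ⊓ centralizer (A : Set _))
        ⟨expU_mem hpair.fs hpair.ss, hcm _ hpair.ss fun a ha => (hcentral a ha).1⟩
        ⟨expU_mem hpair.fq hpair.qq, hcm _ hpair.qq fun a ha => (hcentral a ha).2⟩).hasPSL hp5)
    · -- a proper component
      have hlt : M < H := lt_of_le_of_ne hMH hMeq
      have hcard : Nat.card M < Nat.card H :=
        Set.Finite.card_lt_card (Set.toFinite _) (SetLike.coe_ssubset_coe.2 hlt)
      have hmM : MinRank M d := ⟨hm.pos, fun y h1 h2 h3 => hm.min y h1 (fam_mono hMH h2) h3⟩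
      obtain ⟨q₁, hq₁⟩ := exists_opp_of_root hp5 (hcore.normal hMH nc_normalized) hmM
        (⟨hs₁.sq, fam_of_expU_mem hs₁.sq (expU_mem_nc _), hs₁.rank⟩ : Root M d s₁)
      set B := A ⊓ normalizer (M : Set (LinearMap.GeneralLinearGroup (ZMod p) V)) with hB
      have hind := ih V M B (by omega) inf_le_right
        ((hcop.coprime_dvd_left (card_dvd_of_le inf_le_left)).coprime_dvd_right (card_dvd_of_le hMH))
        ⟨s₁, q₁, Pair.of_opp hmM hq₁⟩
      refine hgoal (hasPSL_of_orbit hp5 hMH hAn ?_ hind)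
      intro a ha b hb hne x hx y hy
      rw [map_conj_nc (hAn ha) hs₁.sq, map_conj_nc (hAn hb) hs₁.sq] at hne
      set ta := conjOp a s₁ with hta
      set tb := conjOp b s₁ with htb
      have hra : Root H d ta := ⟨conjOp_sq hs₁.sq, fam_conj (hAn ha) hs₁.fam, by rw [rk_conjOp, hs₁.rank]⟩
      have hrb : Root H d tb := ⟨conjOp_sq hs₁.sq, fam_conj (hAn hb) hs₁.fam, by rw [rk_conjOp, hs₁.rank]⟩
      have hbH : nc H tb ≤ H := (nc_le (expU_mem hrb.fam hrb.sq) le_normalizer (expU_mem hrb.fam hrb.sq)).2
      have hcardab : Nat.card (nc H ta) = Nat.card (nc H tb) := by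
        rw [hta, htb, ← map_conj_nc (hAn ha) hs₁.sq, ← map_conj_nc (hAn hb) hs₁.sq,
          Subgroup.card_map_of_injective (MulAut.conj a).injective,
          Subgroup.card_map_of_injective (MulAut.conj b).injective]
      have hnot : ∀ g ∈ H, g * expU ta * g⁻¹ ∉ nc H tb := by
        intro g hg hmem
        have : expU ta ∈ nc H tb := (mem_normalizer_iff.1 (nc_normalized hg) _).2 hmem
        exact hne (Subgroup.eq_of_le_of_card_ge (nc_le (expU_mem hra.fam hra.sq) nc_normalized this).1 hcardab.ge)
      have hle : nc H ta ≤ centralizer (nc H tb : Set (LinearMap.GeneralLinearGroup (ZMod p) V)) := by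
        rw [nc, closure_le]
        rintro _ ⟨g, hg, rfl⟩
        have hr := hra.conj hg
        rcases root_mem_or_commute hp5 hm hbH nc_normalized (hcore.normal hbH nc_normalized) hr with h | h
        · rw [expU_conj g hra.sq] at h
          exact absurd h (hnot g hg)
        · rw [expU_conj g hra.sq] at h
          exact mem_centralizer_iff.2 h
      have hxa : a * x * a⁻¹ ∈ nc H ta := by
        rw [hta, ← map_conj_nc (hAn ha) hs₁.sq]; exact ⟨x, hx, rfl⟩
      have hyb : b * y * b⁻¹ ∈ nc H tb := by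
        rw [htb, ← map_conj_nc (hAn hb) hs₁.sq]; exact ⟨y, hy, rfl⟩
      exact (mem_centralizer_iff.1 (hle hxa) _ hyb).symm

/-- A quadratic pair in a linear group with a coprime operator group gives `PSL(2, p)` in the fixed points. -/
theorem hasPSL_fixed (hp5 : 5 ≤ p) {V : Type} [AddCommGroup V] [Module (ZMod p) V] [FiniteDimensional (ZMod p) V]
    {H A : Subgroup (LinearMap.GeneralLinearGroup (ZMod p) V)}
    (hAn : A ≤ normalizer (H : Set (LinearMap.GeneralLinearGroup (ZMod p) V)))
    (hcop : (Nat.card A).Coprime (Nat.card H)) (h : ∃ s q, Pair H s q) :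
    HasPSL p (H ⊓ centralizer (A : Set (LinearMap.GeneralLinearGroup (ZMod p) V))) :=
  claim hp5 _ V H A (Nat.lt_succ_self _) hAn hcop h

end CfsgLib.PLocal.ZJCoprime
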