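import Cfsg.Agent.Lib.PLocal.ZJCoprime.Tools

/-!
# The linear theorem: the fixed points of a coprime operator group involve `PSL(2, p)`
-/

set_option autoImplicit false

namespace CfsgLib.PLocal.ZJCoprime

open Cfsg CfsgLib.QuadPair Subgroup Matrix
open scoped commutatorElement

variable {p : ℕ} [Fact p.Prime] {V : Type} [AddCommGroup V] [Module (ZMod p) V]

/-- The normal closure of `1 + x` in `H`. -/
noncomputable def nc (H : Subgroup (LinearMap.GeneralLinearGroup (ZMod p) V)) (x : Module.End (ZMod p) V) :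
    Subgroup (LinearMap.GeneralLinearGroup (ZMod p) V) :=
  Subgroup.closure {g | ∃ h ∈ H, g = h * expU x * h⁻¹}

theorem finite_gl [FiniteDimensional (ZMod p) V] : Finite (LinearMap.GeneralLinearGroup (ZMod p) V) := by
  haveI : Finite V := Module.finite_of_finite (ZMod p)
  haveI : Finite (Module.End (ZMod p) V) := Module.finite_of_finite (ZMod p)
  infer_instance

theorem finite_end [FiniteDimensional (ZMod p) V] : Finite (Module.End (ZMod p) V) := by
  exact Module.finite_of_finite (ZMod p)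

variable {H A : Subgroup (LinearMap.GeneralLinearGroup (ZMod p) V)} {d : ℕ}
variable {s q : Module.End (ZMod p) V}

theorem expU_mem_nc (x : Module.End (ZMod p) V) : expU x ∈ nc H x :=
  subset_closure ⟨1, H.one_mem, by simp⟩

theorem nc_le (hx : expU s ∈ H) {K : Subgroup (LinearMap.GeneralLinearGroup (ZMod p) V)}
    (hK : H ≤ normalizer (K : Set (LinearMap.GeneralLinearGroup (ZMod p) V))) (hs : expU s ∈ K) :
    nc H s ≤ K ∧ nc H s ≤ H := by
  refine ⟨(closure_le _).2 ?_, (closure_le _).2 ?_⟩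
  · rintro _ ⟨h, hh, rfl⟩
    exact (mem_normalizer_iff.1 (hK hh) _).1 hs
  · rintro _ ⟨h, hh, rfl⟩
    exact H.mul_mem (H.mul_mem hh hx) (H.inv_mem hh)

theorem nc_normalized :
    H ≤ normalizer ((nc H s : Subgroup _) : Set (LinearMap.GeneralLinearGroup (ZMod p) V)) := by
  intro g hg
  have key : ∀ g ∈ H, ∀ y ∈ nc H s, g * y * g⁻¹ ∈ nc H s := by
    intro g hg y hy
    have hle : nc H s ≤ (nc H s).comap (MulAut.conj g).toMonoidHom := by
      rw [nc, closure_le]
      rintro _ ⟨h, hh, rfl⟩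
      show g * (h * expU s * h⁻¹) * g⁻¹ ∈ Subgroup.closure _
      exact subset_closure ⟨g * h, H.mul_mem hg hh, by group⟩
    exact hle hy
  rw [mem_normalizer_iff]
  refine fun y => ⟨key g hg y, fun hy => ?_⟩
  have := key g⁻¹ (H.inv_mem hg) _ hy
  simpa [mul_assoc] using this

theorem map_conj_nc {a : LinearMap.GeneralLinearGroup (ZMod p) V}
    (ha : a ∈ normalizer (H : Set (LinearMap.GeneralLinearGroup (ZMod p) V))) (hs : s * s = 0) :
    (nc H s).map (MulAut.conj a).toMonoidHom = nc H (conjOp a s) := by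
  rw [nc, MonoidHom.map_closure, nc]
  congr 1
  ext g
  constructor
  · rintro ⟨_, ⟨h, hh, rfl⟩, rfl⟩
    refine ⟨a * h * a⁻¹, (mem_normalizer_iff.1 ha _).1 hh, ?_⟩
    rw [expU_conj a hs]
    show a * (h * expU s * h⁻¹) * a⁻¹ = _
    group
  · rintro ⟨h, hh, rfl⟩
    refine ⟨_, ⟨a⁻¹ * h * a, (mem_normalizer_iff''.1 ha _).1 hh, rfl⟩, ?_⟩
    rw [expU_conj a hs]
    show a * (a⁻¹ * h * a * expU s * (a⁻¹ * h * a)⁻¹) * a⁻¹ = _
    group

theorem conj_normal {a : LinearMap.GeneralLinearGroup (ZMod p) V}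
    {M : Subgroup (LinearMap.GeneralLinearGroup (ZMod p) V)} (hMH : M ≤ H)
    (ha : a ∈ normalizer (H : Set (LinearMap.GeneralLinearGroup (ZMod p) V))) :
    M.map (MulAut.conj a).toMonoidHom ≤ H := by
  rintro _ ⟨x, hx, rfl⟩
  exact (mem_normalizer_iff.1 ha _).1 (hMH hx)

/-- The stabiliser of a subspace. -/
def stabSub (W : Submodule (ZMod p) V) : Subgroup (LinearMap.GeneralLinearGroup (ZMod p) V) where
  carrier := {g | (∀ w ∈ W, (g : Module.End (ZMod p) V) w ∈ W) ∧
    ∀ w ∈ W, ((g⁻¹ : LinearMap.GeneralLinearGroup (ZMod p) V) : Module.End (ZMod p) V) w ∈ W}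
  one_mem' := ⟨fun w hw => by simpa using hw, fun w hw => by simpa using hw⟩
  mul_mem' := fun {a b} ha hb => ⟨fun w hw => by
      rw [Units.val_mul, Module.End.mul_apply]; exact ha.1 _ (hb.1 w hw),
    fun w hw => by rw [_root_.mul_inv_rev, Units.val_mul, Module.End.mul_apply]; exact hb.2 _ (ha.2 w hw)⟩
  inv_mem' := fun {a} ha => ⟨ha.2, by rw [inv_inv]; exact ha.1⟩

/-- Action on a stable subspace. -/
noncomputable def subRes (W : Submodule (ZMod p) V) : stabSub W →* LinearMap.GeneralLinearGroup (ZMod p) W :=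
  MonoidHom.toHomUnits
    { toFun := fun g => LinearMap.restrict ((g : LinearMap.GeneralLinearGroup (ZMod p) V) : Module.End (ZMod p) V) g.2.1
      map_one' := LinearMap.ext fun w => Subtype.ext rfl
      map_mul' := fun g h => LinearMap.ext fun w => Subtype.ext rfl }

/-- Action on the quotient by a stable subspace. -/
noncomputable def quotRes (W : Submodule (ZMod p) V) :
    stabSub W →* LinearMap.GeneralLinearGroup (ZMod p) (V ⧸ W) :=
  MonoidHom.toHomUnits
    { toFun := fun g => W.mapQ W ((g : LinearMap.GeneralLinearGroup (ZMod p) V) : Module.End (ZMod p) V) g.2.1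
      map_one' := Submodule.linearMap_qext _ (LinearMap.ext fun v => rfl)
      map_mul' := fun g h => Submodule.linearMap_qext _ (LinearMap.ext fun v => rfl) }

theorem descend {W : Type} [AddCommGroup W] [Module (ZMod p) W] [FiniteDimensional (ZMod p) V]
    {St : Subgroup (LinearMap.GeneralLinearGroup (ZMod p) V)} (r : St →* LinearMap.GeneralLinearGroup (ZMod p) W)
    (hH : H ≤ St) (hA : A ≤ St) (hAn : A ≤ normalizer (H : Set (LinearMap.GeneralLinearGroup (ZMod p) V)))
    (hcop : (Nat.card A).Coprime (Nat.card H))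
    (h : HasPSL p ((H.subgroupOf St).map r ⊓ centralizer ((A.subgroupOf St).map r : Set _))) :
    HasPSL p (H ⊓ centralizer (A : Set (LinearMap.GeneralLinearGroup (ZMod p) V))) := by
  haveI := finite_gl (p := p) (V := V)
  have h1 := HasPSL.of_map r (h.mono (map_fixed r
    (fun a ha => by
      rw [mem_normalizer_iff]
      exact fun x => mem_normalizer_iff.1 (hAn ha) x)
    (by rw [Nat.card_congr (subgroupOfEquivOfLe hH).toEquiv, Nat.card_congr (subgroupOfEquivOfLe hA).toEquiv]; exact hcop)))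
  refine (h1.map St.subtype St.subtype_injective).mono ?_
  rintro _ ⟨x, ⟨hxH, hxA⟩, rfl⟩
  refine ⟨hxH, mem_centralizer_iff.2 fun a ha => ?_⟩
  exact congrArg Subtype.val (mem_centralizer_iff.1 hxA ⟨a, hA ha⟩ ha)

/-- The statement proved by induction. -/
def Claim (p : ℕ) [Fact p.Prime] (n : ℕ) : Prop :=
  ∀ (V : Type) [AddCommGroup V] [Module (ZMod p) V] [FiniteDimensional (ZMod p) V]
    (H A : Subgroup (LinearMap.GeneralLinearGroup (ZMod p) V)),
    Nat.card H + Module.finrank (ZMod p) V < n →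
    A ≤ normalizer (H : Set (LinearMap.GeneralLinearGroup (ZMod p) V)) →
    (Nat.card A).Coprime (Nat.card H) → (∃ s q, Pair H s q) →
    HasPSL p (H ⊓ centralizer (A : Set (LinearMap.GeneralLinearGroup (ZMod p) V)))

variable [FiniteDimensional (ZMod p) V] {n : ℕ}

/-- An invariant subspace gives a smaller configuration. -/
theorem reduce_subspace (ih : Claim p n) (hn : Nat.card H + Module.finrank (ZMod p) V ≤ n)
    (hAn : A ≤ normalizer (H : Set (LinearMap.GeneralLinearGroup (ZMod p) V)))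
    (hcop : (Nat.card A).Coprime (Nat.card H)) (hp : Pair H s q) {W : Submodule (ZMod p) V}
    (hW0 : W ≠ ⊥) (hW1 : W ≠ ⊤) (hinv : ∀ g ∈ H ⊔ A, ∀ w ∈ W, (g : Module.End (ZMod p) V) w ∈ W) :
    HasPSL p (H ⊓ centralizer (A : Set (LinearMap.GeneralLinearGroup (ZMod p) V))) := by
  haveI := finite_gl (p := p) (V := V)
  have hle : H ⊔ A ≤ (stabSub W) := fun g hg => ⟨hinv g hg, hinv g⁻¹ (inv_mem hg)⟩
  have hH : H ≤ (stabSub W) := le_sup_left.trans hle
  have hA : A ≤ (stabSub W) := le_sup_right.trans hle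
  have hn' : A.subgroupOf (stabSub W) ≤ normalizer (H.subgroupOf (stabSub W) : Set (stabSub W)) := fun a ha => by
    rw [mem_normalizer_iff]
    exact fun x => mem_normalizer_iff.1 (hAn ha) x
  have hsW : ∀ w ∈ W, s w ∈ W := fun w hw => by
    have := hinv _ (mem_sup_left (expU_mem hp.fs hp.ss)) w hw
    rw [expU_val hp.ss, LinearMap.add_apply, Module.End.one_apply] at this
    simpa using W.sub_mem this hw
  have hqW : ∀ w ∈ W, q w ∈ W := fun w hw => by
    have := hinv _ (mem_sup_left (expU_mem hp.fq hp.qq)) w hw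
    rw [expU_val hp.qq, LinearMap.add_apply, Module.End.one_apply] at this
    simpa using W.sub_mem this hw
  have hcopr : ∀ {W' : Type} [AddCommGroup W'] [Module (ZMod p) W'] (r : (stabSub W) →* LinearMap.GeneralLinearGroup (ZMod p) W'),
      Nat.card ((H.subgroupOf (stabSub W)).map r) ≤ Nat.card H ∧
      (Nat.card ((A.subgroupOf (stabSub W)).map r)).Coprime (Nat.card ((H.subgroupOf (stabSub W)).map r)) ∧
      (A.subgroupOf (stabSub W)).map r ≤ normalizer (((H.subgroupOf (stabSub W)).map r : Subgroup _) : Set _) := by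
    intro W' _ _ r
    have d1 := (H.subgroupOf (stabSub W)).card_map_dvd r
    have d2 := (A.subgroupOf (stabSub W)).card_map_dvd r
    rw [Nat.card_congr (subgroupOfEquivOfLe hH).toEquiv] at d1
    rw [Nat.card_congr (subgroupOfEquivOfLe hA).toEquiv] at d2
    exact ⟨Nat.le_of_dvd Nat.card_pos d1, (hcop.coprime_dvd_left d2).coprime_dvd_right d1,
      (map_mono hn').trans (le_normalizer_map r)⟩
  have hfW : Module.finrank (ZMod p) W < Module.finrank (ZMod p) V := Submodule.finrank_lt hW1
  have hfQ : Module.finrank (ZMod p) (V ⧸ W) < Module.finrank (ZMod p) V := by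
    have := W.finrank_quotient_add_finrank
    have : 0 < Module.finrank (ZMod p) W := by
      rw [Nat.pos_iff_ne_zero]; exact fun e => hW0 (Submodule.finrank_eq_zero.1 e)
    omega
  by_cases hs0 : LinearMap.restrict s hsW = 0
  · -- the quotient
    obtain ⟨hc1, hc2, hc3⟩ := hcopr (quotRes W)
    refine descend (quotRes W) hH hA hAn hcop (ih (V ⧸ W) _ _ (by omega) hc3 hc2 ?_)
    refine ⟨W.mapQ W s hsW, W.mapQ W q hqW, ?_, ?_, ?_, ?_, ?_, ?_, ?_⟩
    · exact Submodule.linearMap_qext _ (LinearMap.ext fun v => by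
        show Submodule.Quotient.mk (s (s v)) = 0
        rw [← Module.End.mul_apply, hp.ss]; rfl)
    · exact Submodule.linearMap_qext _ (LinearMap.ext fun v => by
        show Submodule.Quotient.mk (q (q v)) = 0
        rw [← Module.End.mul_apply, hp.qq]; rfl)
    · exact Submodule.linearMap_qext _ (LinearMap.ext fun v => by
        show Submodule.Quotient.mk (s (q (s v))) = Submodule.Quotient.mk (s v)
        rw [← Module.End.mul_apply, ← Module.End.mul_apply, hp.sqs])
    · exact Submodule.linearMap_qext _ (LinearMap.ext fun v => by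
        show Submodule.Quotient.mk (q (s (q v))) = Submodule.Quotient.mk (q v)
        rw [← Module.End.mul_apply, ← Module.End.mul_apply, hp.qsq])
    · intro h0
      refine hp.ne (LinearMap.ext fun v => ?_)
      have hv : s v ∈ W := by
        have := LinearMap.congr_fun h0 (Submodule.Quotient.mk v)
        exact (Submodule.Quotient.mk_eq_zero W).1 this
      have := congrArg Subtype.val (LinearMap.congr_fun hs0 ⟨q (s v), hqW _ hv⟩)
      rw [← hp.sqs]
      simpa using this
    · refine fam_of_expU_mem (Submodule.linearMap_qext _ (LinearMap.ext fun v => by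
        show Submodule.Quotient.mk (s (s v)) = 0
        rw [← Module.End.mul_apply, hp.ss]; rfl)) ?_
      refine ⟨⟨expU s, hH (expU_mem hp.fs hp.ss)⟩, expU_mem hp.fs hp.ss, Units.ext ?_⟩
      rw [expU_val (Submodule.linearMap_qext _ (LinearMap.ext fun v => by
        show Submodule.Quotient.mk (s (s v)) = 0
        rw [← Module.End.mul_apply, hp.ss]; rfl))]
      refine Submodule.linearMap_qext _ (LinearMap.ext fun v => ?_)
      show Submodule.Quotient.mk ((expU s : Module.End (ZMod p) V) v) = _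
      rw [expU_val hp.ss]
      rfl
    · refine fam_of_expU_mem (Submodule.linearMap_qext _ (LinearMap.ext fun v => by
        show Submodule.Quotient.mk (q (q v)) = 0
        rw [← Module.End.mul_apply, hp.qq]; rfl)) ?_
      refine ⟨⟨expU q, hH (expU_mem hp.fq hp.qq)⟩, expU_mem hp.fq hp.qq, Units.ext ?_⟩
      rw [expU_val (Submodule.linearMap_qext _ (LinearMap.ext fun v => by
        show Submodule.Quotient.mk (q (q v)) = 0
        rw [← Module.End.mul_apply, hp.qq]; rfl))]
      refine Submodule.linearMap_qext _ (LinearMap.ext fun v => ?_)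
      show Submodule.Quotient.mk ((expU q : Module.End (ZMod p) V) v) = _
      rw [expU_val hp.qq]
      rfl
  · obtain ⟨hc1, hc2, hc3⟩ := hcopr (subRes W)
    refine descend (subRes W) hH hA hAn hcop (ih W _ _ (by omega) hc3 hc2 ?_)
    have e : ∀ (x : Module.End (ZMod p) V) (hx : ∀ w ∈ W, x w ∈ W) (hxx : x * x = 0), Fam H x →
        Fam ((H.subgroupOf (stabSub W)).map (subRes W)) (LinearMap.restrict x hx) := by
      intro x hx hxx hf
      have h2 : LinearMap.restrict x hx * LinearMap.restrict x hx = 0 := LinearMap.ext fun w => Subtype.ext (by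
        show x (x w) = 0
        rw [← Module.End.mul_apply, hxx]; rfl)
      refine fam_of_expU_mem h2 ⟨⟨expU x, hH (expU_mem hf hxx)⟩, expU_mem hf hxx, Units.ext ?_⟩
      rw [expU_val h2]
      refine LinearMap.ext fun w => Subtype.ext ?_
      show (expU x : Module.End (ZMod p) V) w = _
      rw [expU_val hxx]
      rfl
    exact ⟨LinearMap.restrict s hsW, LinearMap.restrict q hqW,
      LinearMap.ext fun w => Subtype.ext (show s (s w) = 0 by rw [← Module.End.mul_apply, hp.ss]; rfl),
      LinearMap.ext fun w => Subtype.ext (show q (q w) = 0 by rw [← Module.End.mul_apply, hp.qq]; rfl),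
      LinearMap.ext fun w => Subtype.ext (show s (q (s w)) = s w by
        rw [← Module.End.mul_apply, ← Module.End.mul_apply, hp.sqs]),
      LinearMap.ext fun w => Subtype.ext (show q (s (q w)) = q w by
        rw [← Module.End.mul_apply, ← Module.End.mul_apply, hp.qsq]),
      hs0, e s hsW hp.ss hp.fs, e q hqW hp.qq hp.fq⟩

/-- The configuration left after the reductions. -/
structure Red (H A : Subgroup (LinearMap.GeneralLinearGroup (ZMod p) V)) (d : ℕ) : Prop where
  hp5 : 5 ≤ p
  hAn : A ≤ normalizer (H : Set (LinearMap.GeneralLinearGroup (ZMod p) V))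
  hcop : (Nat.card A).Coprime (Nat.card H)
  core : NoCore H
  irr : ∀ W : Submodule (ZMod p) V, (∀ g ∈ H ⊔ A, ∀ w ∈ W, (g : Module.End (ZMod p) V) w ∈ W) → W = ⊥ ∨ W = ⊤
  gen : Generated H d
  minRank : MinRank H d
  opp : ∀ s, Root H d s → ∃ q, Opp H d s q
  root : ∃ s, Root H d s
  sub : ∀ R : Set (LinearMap.GeneralLinearGroup (ZMod p) V), (∀ a ∈ A, ∀ r ∈ R, a * r * a⁻¹ ∈ R) →
    (∃ s q, Pair (H ⊓ centralizer R) s q) → H ≤ centralizer R

theorem Red.dichotomy (hr : Red H A d) {N : Subgroup (LinearMap.GeneralLinearGroup (ZMod p) V)} (hNH : N ≤ H)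
    (hn : H ≤ normalizer (N : Set (LinearMap.GeneralLinearGroup (ZMod p) V))) (hne : N ≠ H) :
    H ≤ centralizer (N : Set (LinearMap.GeneralLinearGroup (ZMod p) V)) := by
  haveI := finite_gl (p := p) (V := V)
  obtain ⟨s, hs⟩ := hr.root
  rw [← rootElts_closure hr.gen hs, closure_le]
  rintro _ ⟨t, ht, rfl⟩
  rcases root_mem_or_commute hr.hp5 hr.minRank hNH hn (hr.core.normal hNH hn) ht with h | h
  · exact absurd (hr.gen t ht N hNH h hn) hne
  · exact mem_centralizer_iff.2 h

theorem finrank_of_full (hm : MinRank H d) (h : Opp H d s q) (h1 : s * q + q * s = 1) :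
    Module.finrank (ZMod p) V = 2 * d := by
  have hk : LinearMap.ker s = LinearMap.range s := by
    refine le_antisymm (fun v hv => ?_) (mul_eq_zero_iff.1 h.left.sq)
    have e := LinearMap.congr_fun h1 v
    rw [LinearMap.add_apply, Module.End.mul_apply, Module.End.mul_apply, LinearMap.mem_ker.1 hv, map_zero,
      add_zero, Module.End.one_apply] at e
    exact ⟨q v, e⟩
  have e := finrank_ker_add s
  rw [hk] at e
  have e2 : Module.finrank (ZMod p) ↥(LinearMap.range s) = d := h.left.rank
  rw [h.left.rank, e2] at e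
  omega

theorem full_of_finrank (h : Opp H d s q) (hd : Module.finrank (ZMod p) V = 2 * d) :
    s * q + q * s = 1 := by
  have hdis : LinearMap.range s ⊓ LinearMap.range q = ⊥ := by
    rw [eq_bot_iff]
    rintro v ⟨⟨a, rfl⟩, ⟨b, hb⟩⟩
    rw [Submodule.mem_bot]
    have : q (s (q b)) = 0 := by
      rw [hb, ← Module.End.mul_apply s s, h.left.sq, LinearMap.zero_apply, map_zero]
    rw [← Module.End.mul_apply, ← Module.End.mul_apply, h.qsq, hb] at this
    exact this
  have hsup : LinearMap.range s ⊔ LinearMap.range q = ⊤ := by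
    refine Submodule.eq_top_of_finrank_eq ?_
    have := Submodule.finrank_sup_add_finrank_inf_eq (LinearMap.range s) (LinearMap.range q)
    rw [hdis, finrank_bot, add_zero] at this
    rw [this, hd, two_mul]
    exact congrArg₂ (· + ·) h.left.rank h.right.rank
  refine LinearMap.ext fun v => ?_
  have hv : v ∈ LinearMap.range s ⊔ LinearMap.range q := hsup ▸ Submodule.mem_top
  obtain ⟨_, ⟨a, rfl⟩, _, ⟨b, rfl⟩, rfl⟩ := Submodule.mem_sup.1 hv
  rw [map_add, Module.End.one_apply, ← Module.End.mul_apply, ← Module.End.mul_apply (s * q + q * s),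
    add_mul, add_mul, h.sqs, h.qsq, mul_assoc q s s, h.left.sq, mul_zero, add_zero, mul_assoc s q q,
    h.right.sq, mul_zero, zero_add]

theorem Pair.I_conj (h : Pair H s q) {g : LinearMap.GeneralLinearGroup (ZMod p) V}
    (hg : g ∈ normalizer (H : Set (LinearMap.GeneralLinearGroup (ZMod p) V))) :
    (h.conj hg).I = g * h.I * g⁻¹ ∧ (h.conj hg).J = g * h.J * g⁻¹ := by
  have key : ∀ x, (h.conj hg).rho x = g * h.rho x * g⁻¹ := by
    intro x
    refine Units.ext ?_
    rw [Units.val_mul, Units.val_mul, Pair.rho_val, Pair.rho_val]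
    show _ = conjOp g _
    simp only [conjOp_add, conjOp_sub, conjOp_smul, conjOp_mul, conjOp_one]
  exact ⟨key _, key _⟩

/-- The involution of some opposite pair is `-1`. -/
theorem Red.exists_full (hr : Red H A d) : ∃ s q, Opp H d s q ∧ s * q + q * s = 1 := by
  classical
  haveI := finite_gl (p := p) (V := V)
  haveI : Fact (Nat.Prime 2) := ⟨Nat.prime_two⟩
  obtain ⟨s₀, hs₀⟩ := hr.root
  obtain ⟨q₀, ho₀⟩ := hr.opp s₀ hs₀
  have hp₀ := Pair.of_opp hr.minRank ho₀
  obtain ⟨P, hPA⟩ := CfsgLib.Core.exists_invariant_sylow hr.hAn hr.hcop (solvable_or hr.hcop) 2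
  set P0 := (P : Subgroup H).map H.subtype with hP0
  have hP0H : P0 ≤ H := map_subtype_le _
  have hP0p : IsPGroup 2 P0 := P.2.map _
  set Q2 := zpowers hp₀.I ⊔ zpowers hp₀.J with hQ2
  have hQ2H : Q2 ≤ H := sup_le (zpowers_le.2 (hp₀.rho_mem hr.hp5 _)) (zpowers_le.2 (hp₀.rho_mem hr.hp5 _))
  obtain ⟨P1, hP1⟩ := (hp₀.isPGroup_two.of_equiv (subgroupOfEquivOfLe hQ2H).symm).exists_le_sylow
  obtain ⟨h, hh⟩ := MulAction.exists_smul_eq H P1 P
  have hhN : (h : LinearMap.GeneralLinearGroup (ZMod p) V) ∈ normalizer (H : Set _) := le_normalizer h.2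
  set g : LinearMap.GeneralLinearGroup (ZMod p) V := (h : LinearMap.GeneralLinearGroup (ZMod p) V) with hg
  have hin : ∀ y ∈ Q2, g * y * g⁻¹ ∈ P0 := by
    intro y hy
    refine ⟨h * ⟨y, hQ2H hy⟩ * h⁻¹, ?_, rfl⟩
    rw [← hh, Sylow.coe_subgroup_smul]
    exact ⟨⟨y, hQ2H hy⟩, hP1 hy, rfl⟩
  have ho : Opp H d (conjOp g s₀) (conjOp g q₀) :=
    ⟨ho₀.left.conj h.2, ho₀.right.conj h.2, by rw [← conjOp_mul, ← conjOp_mul, ho₀.sqs],
      by rw [← conjOp_mul, ← conjOp_mul, ho₀.qsq]⟩
  set s := conjOp g s₀ with hs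
  set q := conjOp g q₀ with hq
  set hp : Pair H s q := hp₀.conj hhN with hpdef
  have hI : hp.I ∈ P0 := by rw [(hp₀.I_conj hhN).1]; exact hin _ (mem_sup_left (mem_zpowers _))
  have hJ : hp.J ∈ P0 := by rw [(hp₀.I_conj hhN).2]; exact hin _ (mem_sup_right (mem_zpowers _))
  -- subsets fixed by the quaternion elements are central
  have hsub : ∀ R : Set (LinearMap.GeneralLinearGroup (ZMod p) V), (∀ a ∈ A, ∀ r ∈ R, a * r * a⁻¹ ∈ R) →
      (∀ r ∈ R, r * hp.I = hp.I * r ∧ r * hp.J = hp.J * r) → H ≤ centralizer R := by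
    intro R hR hcm
    have hcs : ∀ r ∈ R, ((r : Module.End (ZMod p) V) * s = s * r ∧ (r : Module.End (ZMod p) V) * q = q * r) :=
      fun r hr' => hp.commute_of_commute hr.hp5 (congrArg Units.val (hcm r hr').1) (congrArg Units.val (hcm r hr').2)
    refine hr.sub R hR ⟨s, q, hp.of_mem ⟨expU_mem hp.fs hp.ss, mem_centralizer_iff.2 fun r hr' => Units.ext ?_⟩
      ⟨expU_mem hp.fq hp.qq, mem_centralizer_iff.2 fun r hr' => Units.ext ?_⟩⟩
    · rw [Units.val_mul, Units.val_mul, expU_val hp.ss, mul_add, add_mul, (hcs r hr').1, mul_one, one_mul]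
    · rw [Units.val_mul, Units.val_mul, expU_val hp.qq, mul_add, add_mul, (hcs r hr').2, mul_one, one_mul]
  have hAP : ∀ a ∈ A, ∀ r ∈ P0, a * r * a⁻¹ ∈ P0 := fun a ha r hr' => (mem_normalizer_iff.1 (hPA ha) r).1 hr'
  set Zc := P0 ⊓ centralizer (P0 : Set _) with hZc
  have hZH : H ≤ centralizer (Zc : Set _) := by
    refine hsub _ (fun a ha r hr' => ⟨hAP a ha r hr'.1, mem_centralizer_iff.2 fun y hy => ?_⟩) fun r hr' =>
      ⟨(mem_centralizer_iff.1 hr'.2 _ hI).symm, (mem_centralizer_iff.1 hr'.2 _ hJ).symm⟩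
    have hy' : a⁻¹ * y * a ∈ P0 := by simpa using hAP a⁻¹ (A.inv_mem ha) y hy
    have := mem_centralizer_iff.1 hr'.2 _ hy'
    calc y * (a * r * a⁻¹) = a * ((a⁻¹ * y * a) * r) * a⁻¹ := by group
      _ = a * (r * (a⁻¹ * y * a)) * a⁻¹ := by rw [this]
      _ = _ := by group
  let R2 : Set (LinearMap.GeneralLinearGroup (ZMod p) V) := {r | r ∈ P0 ∧ ∀ y ∈ P0, ⁅r, y⁆ ∈ Zc}
  have hR2A : ∀ a ∈ A, ∀ r ∈ R2, a * r * a⁻¹ ∈ R2 := by
    rintro a ha r ⟨hr1, hr2⟩
    refine ⟨hAP a ha r hr1, fun y hy => ?_⟩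
    have hy' : a⁻¹ * y * a ∈ P0 := by simpa using hAP a⁻¹ (A.inv_mem ha) y hy
    have h2 := hr2 _ hy'
    have e : ⁅a * r * a⁻¹, y⁆ = a * ⁅r, a⁻¹ * y * a⁆ * a⁻¹ := by
      simp only [commutatorElement_def]; group
    refine ⟨e ▸ hAP a ha _ h2.1, mem_centralizer_iff.2 fun z hz => ?_⟩
    have hz' : a⁻¹ * z * a ∈ P0 := by simpa using hAP a⁻¹ (A.inv_mem ha) z hz
    have := mem_centralizer_iff.1 h2.2 _ hz'
    rw [e]
    calc z * (a * ⁅r, a⁻¹ * y * a⁆ * a⁻¹) = a * ((a⁻¹ * z * a) * ⁅r, a⁻¹ * y * a⁆) * a⁻¹ := by group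
      _ = a * (⁅r, a⁻¹ * y * a⁆ * (a⁻¹ * z * a)) * a⁻¹ := by rw [this]
      _ = _ := by group
  have hIJne : hp.I * hp.J ≠ hp.J * hp.I := by
    intro e
    have e2 := hp.IJ
    rw [e] at e2
    have e3 : hp.I * hp.I = 1 := mul_eq_right.1 e2.symm
    have e4 := congrArg (fun x : LinearMap.GeneralLinearGroup (ZMod p) V => (x : Module.End (ZMod p) V)) e3
    rw [Units.val_mul, hp.II, Units.val_one, sub_eq_self, ← Nat.cast_smul_eq_nsmul (ZMod p), smul_eq_zero] at e4
    rcases e4 with e4 | e4
    · exact two_ne (p := p) hr.hp5 (by exact_mod_cast e4)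
    · exact hp.ne (by rw [← hp.f_s, e4, zero_mul])
  -- an element of the second centre moving the quaternion elements
  obtain ⟨r, ⟨hrP, hrZ⟩, hrne⟩ : ∃ r ∈ R2, ¬ (r * hp.I = hp.I * r ∧ r * hp.J = hp.J * r) := by
    by_contra hcon
    push Not at hcon
    have hcent := hsub R2 hR2A hcon
    set Z0 := Subgroup.center P0 with hZ0
    have hne : Nontrivial (P0 ⧸ Z0) := QuotientGroup.nontrivial_iff.2 fun htop =>
      hIJne (congrArg Subtype.val (Subgroup.mem_center_iff.1 (htop.ge (mem_top (⟨hp.J, hJ⟩ : P0))) ⟨hp.I, hI⟩))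
    haveI := (hP0p.to_quotient Z0).center_nontrivial
    obtain ⟨⟨z, hz⟩, hz1⟩ := exists_ne (1 : Subgroup.center (P0 ⧸ Z0))
    induction z using QuotientGroup.induction_on with
    | H z =>
      apply hz1
      refine Subtype.ext ((QuotientGroup.eq_one_iff z).2 (Subgroup.mem_center_iff.2 fun y => Subtype.ext ?_))
      have hzR : (z : LinearMap.GeneralLinearGroup (ZMod p) V) ∈ R2 := by
        refine ⟨z.2, fun y hy => ?_⟩
        have hc : (⁅z, ⟨y, hy⟩⁆ : P0) ∈ Z0 := by
          rw [← QuotientGroup.eq_one_iff]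
          show QuotientGroup.mk' Z0 ⁅z, ⟨y, hy⟩⁆ = 1
          rw [map_commutatorElement, commutatorElement_eq_one_iff_mul_comm]
          exact (Subgroup.mem_center_iff.1 hz _).symm
        exact ⟨(⁅z, ⟨y, hy⟩⁆ : P0).2, mem_centralizer_iff.2 fun w hw =>
          congrArg Subtype.val (Subgroup.mem_center_iff.1 hc ⟨w, hw⟩)⟩
      exact (mem_centralizer_iff.1 (hcent (hP0H y.2)) _ hzR).symm
  set zI := ⁅r, hp.I⁆ with hzI
  set zJ := ⁅r, hp.J⁆ with hzJ
  have hzIH : ∀ y ∈ H, zI * y = y * zI := fun y hy => mem_centralizer_iff.1 (hZH hy) _ (hrZ _ hI)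
  have hzJH : ∀ y ∈ H, zJ * y = y * zJ := fun y hy => mem_centralizer_iff.1 (hZH hy) _ (hrZ _ hJ)
  have hrH : r ∈ H := hP0H hrP
  have hrI : r * hp.I = zI * hp.I * r := by rw [hzI, commutatorElement_def]; group
  have hrJ : r * hp.J = zJ * hp.J * r := by rw [hzJ, commutatorElement_def]; group
  have hIH : hp.I ∈ H := hP0H hI
  have hJH : hp.J ∈ H := hP0H hJ
  have hzIin : zI ∈ H := hP0H (hrZ _ hI).1
  have hzJin : zJ ∈ H := hP0H (hrZ _ hJ).1
  have hrII : r * (hp.I * hp.I) = zI * zI * (hp.I * hp.I) * r := by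
    calc r * (hp.I * hp.I) = (r * hp.I) * hp.I := by group
      _ = (zI * hp.I * r) * hp.I := by rw [hrI]
      _ = zI * hp.I * (r * hp.I) := by group
      _ = zI * hp.I * (zI * hp.I * r) := by rw [hrI]
      _ = zI * (hp.I * zI) * hp.I * r := by group
      _ = _ := by rw [← hzIH _ hIH]; group
  have hz2 : zI * zI = 1 := by
    have e1 : r * (hp.I * hp.J) = zI * zJ * (hp.I * hp.J) * r := by
      calc r * (hp.I * hp.J) = zI * hp.I * (r * hp.J) := by rw [← mul_assoc, hrI, mul_assoc]
        _ = zI * hp.I * (zJ * hp.J * r) := by rw [hrJ]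
        _ = zI * (hp.I * zJ) * hp.J * r := by group
        _ = _ := by rw [← hzJH _ hIH]; group
    have e2 : r * (hp.J * hp.I) = zI * zJ * (hp.J * hp.I) * r := by
      calc r * (hp.J * hp.I) = zJ * hp.J * (r * hp.I) := by rw [← mul_assoc, hrJ, mul_assoc]
        _ = zJ * hp.J * (zI * hp.I * r) := by rw [hrI]
        _ = zJ * (hp.J * zI) * hp.I * r := by group
        _ = zJ * zI * (hp.J * hp.I) * r := by rw [← hzIH _ hJH]; group
        _ = _ := by rw [hzIH _ hzJin]
    have e3 : r * (hp.I * hp.J) = zI * zI * (zI * zJ * (hp.I * hp.J)) * r := by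
      calc r * (hp.I * hp.J) = r * (hp.I * hp.I) * (hp.J * hp.I) := by rw [hp.IJ]; group
        _ = zI * zI * (hp.I * hp.I) * (r * (hp.J * hp.I)) := by rw [hrII, mul_assoc]
        _ = zI * zI * ((hp.I * hp.I) * (zI * zJ)) * (hp.J * hp.I) * r := by rw [e2]; group
        _ = _ := by
          rw [show (hp.I * hp.I) * (zI * zJ) = zI * zJ * (hp.I * hp.I) by
            have h1 := hzIH _ (H.mul_mem hIH hIH)
            have h2 := hzJH _ (H.mul_mem hIH hIH)
            rw [← mul_assoc, ← h1, mul_assoc, ← h2, mul_assoc], hp.IJ]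
          group
    rw [e1] at e3
    exact mul_eq_right.1 (mul_right_cancel e3).symm
  have hrt : r * (hp.I * hp.I) = hp.I * hp.I * r := by rw [hrII, hz2, one_mul]
  -- the common fixed space
  let W : Submodule (ZMod p) V := LinearMap.ker ((zI : Module.End (ZMod p) V) - 1) ⊓
    LinearMap.ker ((zJ : Module.End (ZMod p) V) - 1)
  have hWmem : ∀ v, v ∈ W ↔ (zI : Module.End (ZMod p) V) v = v ∧ (zJ : Module.End (ZMod p) V) v = v := fun v => by
    simp [W, sub_eq_zero]
  have hWH : ∀ g ∈ H, ∀ w ∈ W, (g : Module.End (ZMod p) V) w ∈ W := by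
    intro g hg w hw
    rw [hWmem] at hw ⊢
    constructor
    · rw [← Module.End.mul_apply, ← Units.val_mul, hzIH g hg, Units.val_mul, Module.End.mul_apply, hw.1]
    · rw [← Module.End.mul_apply, ← Units.val_mul, hzJH g hg, Units.val_mul, Module.End.mul_apply, hw.2]
  have hW : W = ⊥ := by
    by_contra hW0
    let N : Subgroup (LinearMap.GeneralLinearGroup (ZMod p) V) :=
      { carrier := {g | g ∈ H ∧ ∀ w ∈ W, (g : Module.End (ZMod p) V) w = w}
        one_mem' := ⟨H.one_mem, fun w _ => by simp⟩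
        mul_mem' := fun ha hb => ⟨H.mul_mem ha.1 hb.1, fun w hw => by
          rw [Units.val_mul, Module.End.mul_apply, hb.2 w hw, ha.2 w hw]⟩
        inv_mem' := fun {a} ha => ⟨H.inv_mem ha.1, fun w hw => by
          conv_lhs => rw [← ha.2 w hw, ← Module.End.mul_apply, ← Units.val_mul, inv_mul_cancel]
          simp⟩ }
    have hNkey : ∀ g ∈ H, ∀ y ∈ N, g * y * g⁻¹ ∈ N := by
      intro g hg y hy
      refine ⟨H.mul_mem (H.mul_mem hg hy.1) (H.inv_mem hg), fun w hw => ?_⟩
      rw [Units.val_mul, Units.val_mul, Module.End.mul_apply, Module.End.mul_apply,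
        hy.2 _ (hWH g⁻¹ (H.inv_mem hg) w hw), ← Module.End.mul_apply, ← Units.val_mul, mul_inv_cancel]
      simp
    have hNn : H ≤ normalizer (N : Set _) := fun g hg => by
      rw [mem_normalizer_iff]
      refine fun y => ⟨hNkey g hg y, fun hy => ?_⟩
      simpa [mul_assoc] using hNkey g⁻¹ (H.inv_mem hg) _ hy
    have hNH : N ≠ H := by
      intro e
      let F : Submodule (ZMod p) V := ⨅ g : H, LinearMap.ker (((g : LinearMap.GeneralLinearGroup (ZMod p) V) : Module.End (ZMod p) V) - 1)
      have hFmem : ∀ v, v ∈ F ↔ ∀ g ∈ H, (g : Module.End (ZMod p) V) v = v := fun v => by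
        simp [F, sub_eq_zero]
      have hinvF : ∀ x ∈ H ⊔ A, ∀ w ∈ F, (x : Module.End (ZMod p) V) w ∈ F := by
        intro x hx w hw
        rw [hFmem] at hw ⊢
        have hxn : x ∈ normalizer (H : Set _) := (sup_le le_normalizer hr.hAn) hx
        intro g hg
        have := hw _ ((mem_normalizer_iff''.1 hxn g).1 hg)
        rw [Units.val_mul, Units.val_mul, Module.End.mul_apply, Module.End.mul_apply] at this
        conv_rhs => rw [← this]
        rw [← Module.End.mul_apply (x : Module.End (ZMod p) V) (↑x⁻¹), ← Units.val_mul, mul_inv_cancel, Units.val_one,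
          Module.End.one_apply]
      rcases hr.irr F hinvF with hF | hF
      · refine hW0 (eq_bot_iff.2 (le_trans (fun w hw => (hFmem w).2 fun g hg => ?_) hF.le))
        exact (e.ge hg : g ∈ N).2 w hw
      · refine hp.ne (LinearMap.ext fun v => ?_)
        have := (hFmem v).1 (hF ▸ Submodule.mem_top) _ (expU_mem hp.fs hp.ss)
        rw [expU_val hp.ss, LinearMap.add_apply, Module.End.one_apply, add_eq_left] at this
        exact this
    have hNc := hr.dichotomy (N := N) (fun g hg => hg.1) hNn hNH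
    let B : Subalgebra (ZMod p) (Module.End (ZMod p) V) :=
      { carrier := {x | ∀ w ∈ W, x w ∈ W ∧ (r : Module.End (ZMod p) V) (x w) = x ((r : Module.End (ZMod p) V) w)}
        mul_mem' := fun {x y} hx hy w hw => by
          obtain ⟨h1, h2⟩ := hy w hw
          obtain ⟨h3, h4⟩ := hx _ h1
          refine ⟨h3, ?_⟩
          rw [Module.End.mul_apply, h4, h2]
          rfl
        add_mem' := fun {x y} hx hy w hw => ⟨W.add_mem (hx w hw).1 (hy w hw).1, by
          rw [LinearMap.add_apply, map_add, (hx w hw).2, (hy w hw).2]; rfl⟩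
        algebraMap_mem' := fun c w hw => by
          rw [Module.algebraMap_end_apply, Module.algebraMap_end_apply, map_smul]
          exact ⟨W.smul_mem c hw, rfl⟩ }
    have hIB : (hp.I : Module.End (ZMod p) V) ∈ B := fun w hw => ⟨hWH _ hIH w hw, by
      have hw' := (hWmem _).1 (hWH _ hIH _ (hWH _ hrH w hw))
      rw [← Module.End.mul_apply, ← Units.val_mul, hrI, mul_assoc, Units.val_mul, Module.End.mul_apply,
        Units.val_mul, Module.End.mul_apply, hw'.1]⟩
    have hJB : (hp.J : Module.End (ZMod p) V) ∈ B := fun w hw => ⟨hWH _ hJH w hw, by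
      have hw' := (hWmem _).1 (hWH _ hJH _ (hWH _ hrH w hw))
      rw [← Module.End.mul_apply, ← Units.val_mul, hrJ, mul_assoc, Units.val_mul, Module.End.mul_apply,
        Units.val_mul, Module.End.mul_apply, hw'.2]⟩
    obtain ⟨hsB, hqB⟩ := hp.mem_subalgebra hr.hp5 B hIB hJB
    have hcc : ∀ g ∈ H, (g : Module.End (ZMod p) V) ∈ B → ∀ y ∈ H, ⁅r, g⁆ * y = y * ⁅r, g⁆ := by
      intro g hgH hgB y hy
      refine mem_centralizer_iff.1 (hNc hy) _ ⟨H.mul_mem (H.mul_mem (H.mul_mem hrH hgH) (H.inv_mem hrH))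
        (H.inv_mem hgH), fun w hw => ?_⟩
      have hrxw := hWH _ (H.inv_mem hrH) _ (hWH _ (H.inv_mem hgH) w hw)
      rw [commutatorElement_def, Units.val_mul, Units.val_mul, Units.val_mul, Module.End.mul_apply,
        Module.End.mul_apply, Module.End.mul_apply, (hgB _ hrxw).2,
        ← Module.End.mul_apply (r : Module.End (ZMod p) V) (↑r⁻¹), ← Units.val_mul, mul_inv_cancel, Units.val_one,
        Module.End.one_apply, ← Module.End.mul_apply, ← Units.val_mul, mul_inv_cancel]
      simp
    have hcu : ∀ {s' q' : Module.End (ZMod p) V}, Pair H s' q' → s' ∈ B → q' ∈ B →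
        (r : Module.End (ZMod p) V) * s' = s' * r := by
      intro s' q' pr hs' hq'
      have hrho : ∀ x, (pr.rho x : Module.End (ZMod p) V) ∈ B := fun x => by
        rw [pr.rho_val]
        exact B.add_mem (B.sub_mem B.one_mem (B.add_mem (B.mul_mem hs' hq') (B.mul_mem hq' hs')))
          (B.add_mem (B.add_mem (B.add_mem (B.smul_mem (B.mul_mem hs' hq') _) (B.smul_mem hs' _)) (B.smul_mem hq' _))
            (B.smul_mem (B.mul_mem hq' hs') _))
      obtain ⟨D, y, e⟩ := up_eq_commutator (p := p) hr.hp5 1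
      have hDH := pr.rho_mem hr.hp5 D
      have hyH := pr.rho_mem hr.hp5 y
      have hD := hcc _ hDH (hrho D)
      have hy := hcc _ hyH (hrho y)
      set cD := ⁅r, pr.rho D⁆ with hcD
      set cy := ⁅r, pr.rho y⁆ with hcy
      have eD : r * pr.rho D * r⁻¹ = cD * pr.rho D := by rw [hcD, commutatorElement_def]; group
      have ey : r * pr.rho y * r⁻¹ = cy * pr.rho y := by rw [hcy, commutatorElement_def]; group
      have hcyH : cy ∈ H := by
        rw [hcy, commutatorElement_def]
        exact H.mul_mem (H.mul_mem (H.mul_mem hrH hyH) (H.inv_mem hrH)) (H.inv_mem hyH)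
      have key : ⁅cD * pr.rho D, cy * pr.rho y⁆ = ⁅pr.rho D, pr.rho y⁆ := by
        simp only [commutatorElement_def, _root_.mul_inv_rev]
        calc cD * pr.rho D * (cy * pr.rho y) * ((pr.rho D)⁻¹ * cD⁻¹) * ((pr.rho y)⁻¹ * cy⁻¹)
            = cD * (pr.rho D * cy) * (pr.rho y * (pr.rho D)⁻¹) * (cD⁻¹ * (pr.rho y)⁻¹) * cy⁻¹ := by group
          _ = cD * cy * (pr.rho D * pr.rho y * (pr.rho D)⁻¹ * (pr.rho y)⁻¹) * cD⁻¹ * cy⁻¹ := by
              rw [← hy _ hDH, (Commute.inv_left (Commute.inv_right (hD _ hyH))).eq]; group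
          _ = (pr.rho D * pr.rho y * (pr.rho D)⁻¹ * (pr.rho y)⁻¹) * (cD * cy) * cD⁻¹ * cy⁻¹ := by
              have hK := H.mul_mem (H.mul_mem (H.mul_mem hDH hyH) (H.inv_mem hDH)) (H.inv_mem hyH)
              rw [mul_assoc cD cy, hy _ hK, ← mul_assoc cD, hD _ hK]; group
          _ = _ := by rw [hD cy hcyH]; group
      have hx : r * expU s' = expU s' * r := by
        rw [← pr.rho_up_one, ← e, map_commutatorElement]
        calc r * ⁅pr.rho D, pr.rho y⁆ = ⁅r * pr.rho D * r⁻¹, r * pr.rho y * r⁻¹⁆ * r := by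
              simp only [commutatorElement_def]; group
          _ = _ := by rw [eD, ey, key]
      have := congrArg Units.val hx
      rw [Units.val_mul, Units.val_mul, expU_val pr.ss, mul_add, add_mul, mul_one, one_mul,
        add_right_inj] at this
      exact this
    have hU : ((r : Module.End (ZMod p) V) * s = s * r) := hcu hp hsB hqB
    have hL : ((r : Module.End (ZMod p) V) * q = q * r) := hcu hp.symm hqB hsB
    let C : Subalgebra (ZMod p) (Module.End (ZMod p) V) := Subalgebra.centralizer (ZMod p) {(r : Module.End (ZMod p) V)}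
    have hsC : s ∈ C := Subalgebra.mem_centralizer_iff (R := ZMod p) |>.2 fun g hg => by
      rw [Set.mem_singleton_iff.1 hg]; exact hU
    have hqC : q ∈ C := Subalgebra.mem_centralizer_iff (R := ZMod p) |>.2 fun g hg => by
      rw [Set.mem_singleton_iff.1 hg]; exact hL
    have hrhoC : ∀ x, r * hp.rho x = hp.rho x * r := fun x => by
      refine Units.ext ?_
      rw [Units.val_mul, Units.val_mul]
      refine (Subalgebra.mem_centralizer_iff (R := ZMod p) |>.1 ?_) _ (Set.mem_singleton _)
      rw [hp.rho_val]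
      exact C.add_mem (C.sub_mem C.one_mem (C.add_mem (C.mul_mem hsC hqC) (C.mul_mem hqC hsC)))
        (C.add_mem (C.add_mem (C.add_mem (C.smul_mem (C.mul_mem hsC hqC) _) (C.smul_mem hsC _)) (C.smul_mem hqC _))
          (C.smul_mem (C.mul_mem hqC hsC) _))
    exact hrne ⟨hrhoC _, hrhoC _⟩
  refine ⟨s, q, ho, ?_⟩
  refine LinearMap.ext fun v => ?_
  rw [Module.End.one_apply, ← sub_eq_zero]
  -- `(1 - f) v` is fixed by both commutators
  set u := v - (s * q + q * s) v with hu
  have hfu : (s * q + q * s) u = 0 := by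
    rw [hu, map_sub, ← Module.End.mul_apply (s * q + q * s) (s * q + q * s), hp.idem, sub_self]
  have hfr : (r : Module.End (ZMod p) V) * (s * q + q * s) = (s * q + q * s) * r := by
    have e := congrArg Units.val hrt
    simp only [Units.val_mul, hp.II] at e
    simp only [mul_sub, sub_mul, mul_one, one_mul, sub_right_inj, mul_smul_comm, smul_mul_assoc,
      ← Nat.cast_smul_eq_nsmul (ZMod p)] at e
    exact smul_right_injective _ (by exact_mod_cast two_ne (p := p) hr.hp5) e
  have hval0 : ∀ x, (s * q + q * s) x = 0 → (hp.I : Module.End (ZMod p) V) x = x ∧ (hp.J : Module.End (ZMod p) V) x = x := by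
    intro x hx
    have hsx : s x = 0 := by rw [← hp.s_f, Module.End.mul_apply, hx, map_zero]
    have hqx : q x = 0 := by rw [← hp.q_f, Module.End.mul_apply, hx, map_zero]
    constructor
    · rw [hp.I_val, LinearMap.add_apply, LinearMap.sub_apply, LinearMap.sub_apply, Module.End.one_apply, hx,
        sub_zero, hsx, hqx, sub_zero, add_zero]
    · rw [hp.J_val, LinearMap.add_apply, LinearMap.sub_apply, Module.End.one_apply, hx, sub_zero,
        LinearMap.add_apply, LinearMap.smul_apply, LinearMap.smul_apply, LinearMap.sub_apply, LinearMap.add_apply,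
        Module.End.mul_apply, Module.End.mul_apply, hsx, hqx, map_zero, map_zero, sub_zero, add_zero, smul_zero,
        smul_zero, add_zero, add_zero]
  have hzero : u ∈ W := by
    set x := ((r⁻¹ : LinearMap.GeneralLinearGroup (ZMod p) V) : Module.End (ZMod p) V) u with hx
    have hrx : (r : Module.End (ZMod p) V) x = u := by
      rw [hx, ← Module.End.mul_apply, ← Units.val_mul, mul_inv_cancel, Units.val_one, Module.End.one_apply]
    have hfx : (s * q + q * s) x = 0 := by
      have e : (r : Module.End (ZMod p) V) ((s * q + q * s) x) = 0 := by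
        rw [← Module.End.mul_apply, hfr, Module.End.mul_apply, hrx, hfu]
      have := congrArg ((r⁻¹ : LinearMap.GeneralLinearGroup (ZMod p) V) : Module.End (ZMod p) V) e
      rw [map_zero, ← Module.End.mul_apply, ← Units.val_mul, inv_mul_cancel, Units.val_one, Module.End.one_apply] at this
      exact this
    have hkey : ∀ (z g : LinearMap.GeneralLinearGroup (ZMod p) V), r * g = z * g * r →
        (g : Module.End (ZMod p) V) x = x → (g : Module.End (ZMod p) V) u = u →
        (z : Module.End (ZMod p) V) u = u := by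
      intro z g hzg hgx hgu
      calc (z : Module.End (ZMod p) V) u = (z : Module.End (ZMod p) V) ((g : Module.End (ZMod p) V) ((r : Module.End (ZMod p) V) x)) := by
            rw [hrx, hgu]
        _ = ((z * g * r : LinearMap.GeneralLinearGroup (ZMod p) V) : Module.End (ZMod p) V) x := rfl
        _ = ((r * g : LinearMap.GeneralLinearGroup (ZMod p) V) : Module.End (ZMod p) V) x := by rw [hzg]
        _ = (r : Module.End (ZMod p) V) ((g : Module.End (ZMod p) V) x) := rfl
        _ = u := by rw [hgx, hrx]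
    exact (hWmem u).2 ⟨hkey _ _ hrI (hval0 x hfx).1 (hval0 u hfu).1, hkey _ _ hrJ (hval0 x hfx).2 (hval0 u hfu).2⟩
  rw [hW, Submodule.mem_bot, hu, sub_eq_zero] at hzero
  rw [sub_eq_zero, ← hzero]

end CfsgLib.PLocal.ZJCoprime
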