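import Cfsg.Agent.Lib.PLocal.ZJCoprime.Section
import Cfsg.Agent.Lib.PLocal.PStable

/-!
# The ZJ factorisation under a coprime automorphism group
-/

set_option autoImplicit false

namespace CfsgLib.PLocal.ZJCoprime

open Cfsg CfsgLib.Core Subgroup Matrix
open scoped commutatorElement

universe u

variable {p : ℕ} [Fact p.Prime]

/-- The action of the automorphisms on a characteristic quotient. -/
noncomputable def quotAut {G : Type u} [Group G] (N : Subgroup G) [N.Characteristic] :
    MulAut G →* MulAut (G ⧸ N) where
  toFun φ := QuotientGroup.congr N N φ (characteristic_iff_map_eq.1 ‹N.Characteristic› φ)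
  map_one' := by
    ext x
    induction x using QuotientGroup.induction_on
    rfl
  map_mul' φ ψ := by
    ext x
    induction x using QuotientGroup.induction_on
    rfl

theorem quotAut_mk {G : Type u} [Group G] (N : Subgroup G) [N.Characteristic] (φ : MulAut G) (g : G) :
    quotAut N φ (QuotientGroup.mk g) = QuotientGroup.mk (φ g) := rfl

/-- A `p`-constrained group with a coprime automorphism group whose fixed points have no `PSL(2, p)`
section factorises as `O_{p'} N(Z(J(S)))`. -/
theorem zj_factorization_coprime (hp5 : 5 ≤ p) {G : Type u} [Group G] [Finite G]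
    (hG : IsPConstrained p G) (S : Sylow p G) {A : Subgroup (MulAut G)}
    (hA : (Nat.card A).Coprime (Nat.card G)) {C : Subgroup G} (hC : ∀ g : G, g ∈ C ↔ ∀ a ∈ A, a g = g)
    (hno : ¬ HasPSL p C) :
    pPrimeCore p G ⊔ normalizer (centerThompsonAOf (S : Subgroup G) : Set G) = ⊤ := by
  set N := pPrimeCore p G with hN
  set π := QuotientGroup.mk' N with hπ
  have hsurj : Function.Surjective π := QuotientGroup.mk'_surjective N
  have hA' : (Nat.card (A.map (quotAut N))).Coprime (Nat.card (G ⧸ N)) :=
    (hA.coprime_dvd_left (A.card_map_dvd _)).coprime_dvd_right (card_quotient_dvd_card N)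
  have hC' : ∀ g : G ⧸ N, g ∈ C.map π ↔ ∀ a ∈ A.map (quotAut N), a g = g := by
    intro q
    constructor
    · rintro ⟨g, hg, rfl⟩ _ ⟨a, ha, rfl⟩
      show quotAut N a (QuotientGroup.mk g) = QuotientGroup.mk g
      rw [quotAut_mk, (hC g).1 hg a ha]
    · intro hq
      obtain ⟨g, rfl⟩ := hsurj q
      obtain ⟨n, hn, hfix⟩ := lift_fixed hA (N := N)
        (fun a _ n hn => apply_mem_char a hn) (g := g) (fun a ha => by
          rw [← QuotientGroup.eq]
          exact (hq _ ⟨a, ha, rfl⟩).symm)
      exact ⟨g * n, (hC _).2 hfix, QuotientGroup.mk_mul_of_mem g hn⟩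
  have hno' : ¬ HasPSL p (C.map π) := fun h => hno (h.of_map π)
  set S' := S.mapSurjective hsurj
  have h1 : (centerThompsonAOf (S' : Subgroup (G ⧸ N))).Normal := by
    have hp : p ≠ 2 := by omega
    have h := zCore_characteristic_char hp (goodPred_abelian p) (isPConstrained_iff.1 hG) S'
      (stableAtChar_of_fixed hp5 hA' hC' hno' _)
    rw [zCore_abelian_eq] at h
    exact normal_of_characteristic _
  have h2 : (centerThompsonAOf (S : Subgroup G)).map π = centerThompsonAOf ((S : Subgroup G).map π) :=
    centerThompsonA_map π _ (by rw [QuotientGroup.ker_mk']; exact disjoint_pPrime S.2)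
  have hZp : IsPGroup p ↥(centerThompsonAOf (S : Subgroup G)) := S.2.to_le (centerThompsonA_le _)
  have h3 := map_normalizer_eq N (coprime_card_pPrimeCore p G) hZp
  rw [h2, show normalizer (centerThompsonAOf ((S : Subgroup G).map π) : Set (G ⧸ N)) = ⊤ from
    normalizer_eq_top_iff.2 h1] at h3
  have h4 := congrArg (Subgroup.comap π) h3
  rw [comap_map_eq, QuotientGroup.ker_mk', comap_top, sup_comm] at h4
  exact h4

end CfsgLib.PLocal.ZJCoprime
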