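import Cfsg.Agent.Lib.QuadPair.Pairs
import Cfsg.Agent.Lib.Core.Zipper
import Cfsg.Agent.Lib.Components.Radicals

/-!
# Natural `SL(2, p)` pairs in a linear group over the field with `p` elements
-/

set_option autoImplicit false

namespace CfsgLib.PLocal.ZJCoprime

open Cfsg CfsgLib.QuadPair Subgroup Matrix
open scoped Pointwise commutatorElement


variable {p : ℕ} [Fact p.Prime] {V : Type} [AddCommGroup V] [Module (ZMod p) V]

local notation "GLV" => LinearMap.GeneralLinearGroup (ZMod p) V
local notation "EV" => Module.End (ZMod p) V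
local notation "S₂" => Matrix.SpecialLinearGroup (Fin 2) (ZMod p)

/-- The element `1 + x` for a square zero operator. -/
noncomputable def expU (x : EV) : GLV := by
  classical
  exact if h : x * x = 0 then ⟨1 + x, 1 - x, by simp [add_mul, mul_sub, h],
    by simp [sub_mul, mul_add, h]⟩ else 1

theorem expU_val {x : EV} (h : x * x = 0) : (expU x : EV) = 1 + x := by
  rw [expU, dif_pos h]

theorem op_expU {x : EV} (h : x * x = 0) : op (expU x) = x := by
  rw [op, expU_val h, add_sub_cancel_left]

theorem expU_op {g : GLV} (h : op g * op g = 0) : expU (op g) = g :=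
  Units.ext (by rw [expU_val h, op, add_sub_cancel])

theorem pow_val {g : GLV} (h : op g * op g = 0) (n : ℕ) :
    ((g ^ n : GLV) : EV) = 1 + n • op g := by
  induction n with
  | zero => simp
  | succ n ih =>
    rw [pow_succ, Units.val_mul, ih, show (g : EV) = 1 + op g by rw [op, add_sub_cancel]]
    simp only [mul_add, mul_one, add_mul, one_mul, smul_mul_assoc, h, smul_zero, add_zero, succ_nsmul]
    abel

theorem fam_of_mem {G : Subgroup GLV} {g : GLV} (hg : g ∈ G) (h : op g * op g = 0) :
    Fam G (op g) := fun c =>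
  ⟨g ^ c.val, G.pow_mem hg _, by
    rw [pow_val h, ← Nat.cast_smul_eq_nsmul (ZMod p), ZMod.natCast_zmod_val]⟩

theorem expU_mem {G : Subgroup GLV} {x : EV} (hx : Fam G x) (h : x * x = 0) : expU x ∈ G := by
  obtain ⟨g, hg, e⟩ := hx 1
  rw [one_smul] at e
  rwa [show expU x = g from Units.ext ((expU_val h).trans e.symm)]

theorem fam_of_expU_mem {G : Subgroup GLV} {x : EV} (h : x * x = 0) (hg : expU x ∈ G) : Fam G x := by
  have := fam_of_mem hg (by rw [op_expU h]; exact h)
  rwa [op_expU h] at this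

theorem fam_mono {G K : Subgroup GLV} (hle : K ≤ G) {x : EV} (hx : Fam K x) : Fam G x := fun c => by
  obtain ⟨g, hg, e⟩ := hx c; exact ⟨g, hle hg, e⟩

theorem expU_pow_p {x : EV} (h : x * x = 0) : expU x ^ p = 1 :=
  Units.ext (by
    rw [pow_val (by rw [op_expU h]; exact h), op_expU h, ← Nat.cast_smul_eq_nsmul (ZMod p),
      ZMod.natCast_self, zero_smul, add_zero, Units.val_one])

theorem conjOp_one (g : GLV) : conjOp g (1 : EV) = 1 := by simp [conjOp]

theorem conjOp_add (g : GLV) (x y : EV) : conjOp g (x + y) = conjOp g x + conjOp g y := by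
  simp [conjOp, mul_add, add_mul]

theorem conjOp_sub (g : GLV) (x y : EV) : conjOp g (x - y) = conjOp g x - conjOp g y := by
  simp [conjOp, mul_sub, sub_mul]

theorem conjOp_smul (g : GLV) (c : ZMod p) (x : EV) : conjOp g (c • x) = c • conjOp g x := by
  simp [conjOp, mul_smul_comm, smul_mul_assoc]

theorem conjOp_conjOp (g h : GLV) (x : EV) : conjOp g (conjOp h x) = conjOp (g * h) x := by
  simp [conjOp, mul_assoc]

theorem conjOp_id (x : EV) : conjOp (1 : GLV) x = x := by simp [conjOp]

theorem conjOp_ne {g : GLV} {x : EV} (h : x ≠ 0) : conjOp g x ≠ 0 := fun e => h (by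
  rw [← conjOp_id x, ← inv_mul_cancel g, ← conjOp_conjOp, e, conjOp_zero])

theorem conjOp_sq {g : GLV} {x : EV} (h : x * x = 0) : conjOp g x * conjOp g x = 0 := by
  rw [← conjOp_mul, h, conjOp_zero]

theorem expU_conj (g : GLV) {x : EV} (h : x * x = 0) :
    expU (conjOp g x) = g * expU x * g⁻¹ :=
  Units.ext (by
    rw [expU_val (conjOp_sq h), Units.val_mul, Units.val_mul, expU_val h]
    simp [conjOp, mul_add, add_mul, mul_assoc])

theorem conjOp_eq_self {g : GLV} {x : EV} : conjOp g x = x ↔ (g : EV) * x = x * g := by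
  constructor
  · intro h
    calc (g : EV) * x = conjOp g x * g := by simp [conjOp, mul_assoc]
      _ = x * g := by rw [h]
  · intro h
    rw [conjOp, h, mul_assoc, Units.mul_inv, mul_one]

theorem fam_conj {G : Subgroup GLV} {g : GLV} (hg : g ∈ normalizer (G : Set GLV)) {x : EV}
    (hx : Fam G x) : Fam G (conjOp g x) := fun c => by
  obtain ⟨h, hh, e⟩ := hx c
  refine ⟨g * h * g⁻¹, (mem_normalizer_iff.1 hg h).1 hh, ?_⟩
  rw [Units.val_mul, Units.val_mul, e, ← conjOp_smul]
  simp [conjOp, mul_add, add_mul, mul_assoc]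

/-- `1 + s` and `1 + q` lie in `G` and act as the standard root elements of a natural `SL(2, p)`. -/
structure Pair (G : Subgroup GLV) (s q : EV) : Prop where
  ss : s * s = 0
  qq : q * q = 0
  sqs : s * q * s = s
  qsq : q * s * q = q
  ne : s ≠ 0
  fs : Fam G s
  fq : Fam G q

variable {G K : Subgroup (LinearMap.GeneralLinearGroup (ZMod p) V)} {s q : Module.End (ZMod p) V} {d : ℕ}

theorem Pair.of_opp [FiniteDimensional (ZMod p) V] (hm : MinRank G d) (h : Opp G d s q) : Pair G s q :=
  ⟨h.left.sq, h.right.sq, h.sqs, h.qsq, h.left.ne_zero hm, h.left.fam, h.right.fam⟩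

theorem Pair.symm (h : Pair G s q) : Pair G q s :=
  ⟨h.qq, h.ss, h.qsq, h.sqs, fun e => h.ne (by rw [← h.sqs, e, mul_zero, zero_mul]), h.fq, h.fs⟩

theorem Pair.mono (h : Pair G s q) (hle : G ≤ K) : Pair K s q :=
  ⟨h.ss, h.qq, h.sqs, h.qsq, h.ne, fam_mono hle h.fs, fam_mono hle h.fq⟩

theorem Pair.of_mem (h : Pair G s q) (hs : expU s ∈ K) (hq : expU q ∈ K) : Pair K s q :=
  ⟨h.ss, h.qq, h.sqs, h.qsq, h.ne, fam_of_expU_mem h.ss hs, fam_of_expU_mem h.qq hq⟩

theorem Pair.conj (h : Pair G s q) {g : GLV} (hg : g ∈ normalizer (G : Set GLV)) :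
    Pair G (conjOp g s) (conjOp g q) :=
  ⟨conjOp_sq h.ss, conjOp_sq h.qq, by rw [← conjOp_mul, ← conjOp_mul, h.sqs],
    by rw [← conjOp_mul, ← conjOp_mul, h.qsq], conjOp_ne h.ne, fam_conj hg h.fs, fam_conj hg h.fq⟩

theorem Pair.idem (h : Pair G s q) : (s * q + q * s) * (s * q + q * s) = s * q + q * s := by
  linear_combination (norm := noncomm_ring) h.sqs * q + h.qsq * s + s * h.qq * s + q * h.ss * q

theorem Pair.act (h : Pair G s q) :
    SL2Act ((LinearMap.toSpanSingleton (ZMod p) EV (s * q + q * s))) s q := by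
  refine ⟨h.ss, h.qq, h.sqs, h.qsq, fun a b => ?_, by simp, fun a => ?_, fun a => ?_⟩
  · simp only [LinearMap.toSpanSingleton_apply, smul_mul_assoc, mul_smul_comm, h.idem, smul_smul]
    rw [mul_comm]
  · simp only [LinearMap.toSpanSingleton_apply, smul_mul_assoc, mul_smul_comm]
    congr 1
    linear_combination (norm := noncomm_ring) q * h.ss - h.ss * q
  · simp only [LinearMap.toSpanSingleton_apply, smul_mul_assoc, mul_smul_comm]
    congr 1
    linear_combination (norm := noncomm_ring) s * h.qq - h.qq * s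

theorem Pair.f_s (h : Pair G s q) : (s * q + q * s) * s = s := h.act.f_left.1

theorem Pair.f_q (h : Pair G s q) : (s * q + q * s) * q = q := h.act.f_left.2

theorem Pair.s_f (h : Pair G s q) : s * (s * q + q * s) = s := h.act.f_right.1

theorem Pair.q_f (h : Pair G s q) : q * (s * q + q * s) = q := h.act.f_right.2

theorem Pair.theta_eq (h : Pair G s q) (X : Matrix (Fin 2) (Fin 2) (ZMod p)) :
    theta (LinearMap.toSpanSingleton (ZMod p) EV (s * q + q * s)) s q X =
      X 0 0 • (s * q) + X 0 1 • s + X 1 0 • q + X 1 1 • (q * s) := by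
  have e1 : (s * q + q * s) * (s * q) = s * q := by rw [← mul_assoc, h.f_s]
  have e2 : (s * q + q * s) * (q * s) = q * s := by rw [← mul_assoc, h.f_q]
  simp only [theta, LinearMap.toSpanSingleton_apply, smul_mul_assoc, e1, e2, h.f_s, h.f_q]

/-- The natural representation. -/
noncomputable def Pair.rho (h : Pair G s q) : S₂ →* GLV := h.act.rep

theorem Pair.rho_val (h : Pair G s q) (g : S₂) : (h.rho g : EV) =
    1 - (s * q + q * s) + (mat g 0 0 • (s * q) + mat g 0 1 • s + mat g 1 0 • q + mat g 1 1 • (q * s)) := by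
  rw [Pair.rho, h.act.rep_val, h.theta_eq]

theorem Pair.rho_up (h : Pair G s q) (c : ZMod p) : (h.rho (up c) : EV) = 1 + c • s := by
  rw [Pair.rho, h.act.rep_up, LinearMap.toSpanSingleton_apply, smul_mul_assoc, h.f_s]

theorem Pair.rho_lo (h : Pair G s q) (c : ZMod p) : (h.rho (lo c) : EV) = 1 + c • q := by
  rw [Pair.rho, h.act.rep_lo, LinearMap.toSpanSingleton_apply, smul_mul_assoc, h.f_q]

theorem Pair.rho_up_one (h : Pair G s q) : h.rho (up 1) = expU s :=
  Units.ext (by rw [h.rho_up, one_smul, expU_val h.ss])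

theorem Pair.rho_injective (h : Pair G s q) : Function.Injective h.rho := by
  refine h.act.rep_injective ?_
  rw [injective_iff_map_eq_zero]
  intro a ha
  rw [LinearMap.toSpanSingleton_apply] at ha
  rcases smul_eq_zero.1 ha with ha | ha
  · exact ha
  · exact absurd (by rw [← h.f_s, ha, zero_mul]) h.ne

/-- A pair of root elements of a square `-1` and anticommuting. -/
def wS : S₂ := ⟨!![0, 1; -1, 0], by simp [Matrix.det_fin_two_of]⟩

/-- `alpha ^ 2 + beta ^ 2 = -1`. -/
noncomputable def alpha (p : ℕ) [Fact p.Prime] : ZMod p := Classical.choose (ZMod.sq_add_sq p (-1))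

/-- `alpha ^ 2 + beta ^ 2 = -1`. -/
noncomputable def beta (p : ℕ) [Fact p.Prime] : ZMod p :=
  Classical.choose (Classical.choose_spec (ZMod.sq_add_sq p (-1)))

theorem alpha_beta : alpha p ^ 2 + beta p ^ 2 = -1 :=
  Classical.choose_spec (Classical.choose_spec (ZMod.sq_add_sq p (-1)))

/-- The second quaternion generator. -/
noncomputable def mS : S₂ := ⟨!![alpha p, beta p; beta p, -alpha p], by
  rw [Matrix.det_fin_two_of]; linear_combination -(alpha_beta (p := p))⟩

theorem wS_mat : mat (wS : S₂) = !![0, 1; -1, 0] := rfl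

theorem mS_mat : mat (mS : S₂) = !![alpha p, beta p; beta p, -alpha p] := rfl

theorem mS_sq : (mS * mS : S₂) = wS * wS := by
  apply mat_injective
  rw [mat_mul, mat_mul, wS_mat, mS_mat]
  ext i j
  fin_cases i <;> fin_cases j <;> simp <;>
    first | linear_combination (alpha_beta (p := p)) | ring

theorem wS_mS : (wS * mS : S₂) = wS * wS * (mS * wS) := by
  apply mat_injective
  simp only [mat_mul, wS_mat, mS_mat]
  ext i j
  fin_cases i <;> fin_cases j <;> simp

theorem wS_four : (wS : S₂) ^ 4 = 1 := by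
  apply mat_injective
  rw [show (wS : S₂) ^ 4 = wS * wS * (wS * wS) by rw [pow_succ, pow_three]; group]
  simp only [mat_mul, wS_mat, mat_one]
  ext i j
  fin_cases i <;> fin_cases j <;> simp

/-- first quaternion element of a pair -/
noncomputable def Pair.I (h : Pair G s q) : GLV := h.rho wS

/-- second quaternion element of a pair -/
noncomputable def Pair.J (h : Pair G s q) : GLV := h.rho mS

theorem Pair.I_val (h : Pair G s q) : (h.I : EV) = 1 - (s * q + q * s) + (s - q) := by
  rw [Pair.I, h.rho_val, wS_mat]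
  simp [sub_eq_add_neg]

theorem Pair.J_val (h : Pair G s q) : (h.J : EV) = 1 - (s * q + q * s) +
    (alpha p • (s * q - q * s) + beta p • (s + q)) := by
  rw [Pair.J, h.rho_val, mS_mat]
  simp [smul_sub, smul_add]
  abel

theorem Pair.II (h : Pair G s q) : (h.I : EV) * h.I = 1 - 2 • (s * q + q * s) := by
  rw [h.I_val]
  linear_combination (norm := noncomm_ring) h.idem - h.f_s - h.s_f + h.f_q + h.q_f + h.ss + h.qq

theorem Pair.JJ (h : Pair G s q) : h.J * h.J = h.I * h.I := by
  rw [Pair.J, Pair.I, ← map_mul, ← map_mul, mS_sq]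

theorem Pair.IJ (h : Pair G s q) : h.I * h.J = h.I * h.I * (h.J * h.I) := by
  rw [Pair.J, Pair.I, ← map_mul, ← map_mul, ← map_mul, ← map_mul, wS_mS]

theorem Pair.isPGroup_two (h : Pair G s q) : IsPGroup 2 ↥(zpowers h.I ⊔ zpowers h.J) := by
  have hI4 : h.I ^ 4 = 1 := by rw [Pair.I, ← map_pow, wS_four, map_one]
  have hJ4 : h.J ^ 4 = 1 := by
    rw [show (4 : ℕ) = 2 * 2 from rfl, pow_mul, pow_two h.J, h.JJ, ← pow_two, ← pow_mul]; exact hI4
  have hpg : ∀ g : GLV, g ^ 4 = 1 → IsPGroup 2 ↥(zpowers g) := by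
    intro g hg
    obtain ⟨m, -, hm⟩ := (Nat.dvd_prime_pow Nat.prime_two).1 ((orderOf_dvd_of_pow_eq_one hg).trans (dvd_of_eq (show 4 = 2 ^ 2 by norm_num)))
    exact IsPGroup.of_card (n := m) (by rw [Nat.card_zpowers, hm])
  refine IsPGroup.to_sup_of_normal_left' (hpg _ hI4) (hpg _ hJ4) (zpowers_le.2 ?_)
  have hconj : h.J * h.I * h.J⁻¹ = h.I⁻¹ := by
    have e : h.J * h.I = (h.I * h.I)⁻¹ * (h.I * h.J) := by rw [h.IJ]; group
    rw [e]; group
  rw [mem_normalizer_iff_map_conj_eq, MonoidHom.map_zpowers]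
  show zpowers (h.J * h.I * h.J⁻¹) = _
  rw [hconj, zpowers_inv]

variable [FiniteDimensional (ZMod p) V] (hp5 : 5 ≤ p)
include hp5

omit [FiniteDimensional (ZMod p) V] in
theorem two_ne : (2 : ZMod p) ≠ 0 := fun h => by
  have : ((2 : ℕ) : ZMod p) = 0 := by exact_mod_cast h
  have := Nat.le_of_dvd (by norm_num) ((ZMod.natCast_eq_zero_iff 2 p).1 this)
  omega

omit [FiniteDimensional (ZMod p) V] in
theorem three_ne : (3 : ZMod p) ≠ 0 := fun h => by
  have : ((3 : ℕ) : ZMod p) = 0 := by exact_mod_cast h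
  have := Nat.le_of_dvd (by norm_num) ((ZMod.natCast_eq_zero_iff 3 p).1 this)
  omega

omit [FiniteDimensional (ZMod p) V] in
theorem card_ne_three : Nat.card (ZMod p) ≠ 3 := by rw [Nat.card_zmod]; omega

omit [FiniteDimensional (ZMod p) V] in
theorem Pair.rho_range (h : Pair G s q) : h.rho.range ≤ G := by
  have : G.comap h.rho = ⊤ := field_case (F := ZMod p) (two_ne hp5) (card_ne_three hp5) 1 one_ne_zero
    (Algebra.eq_top_iff.2 fun x => by
      simpa using Subalgebra.algebraMap_mem (Algebra.adjoin (ZMod p) ({1} : Set (ZMod p))) x)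
    (G.comap h.rho)
    (fun c => by
      obtain ⟨g, hg, e⟩ := h.fs c
      rw [mem_comap, show h.rho (up (algebraMap (ZMod p) (ZMod p) c)) = g from
        Units.ext (by rw [h.rho_up, e]; rfl)]
      exact hg)
    (fun c => by
      obtain ⟨g, hg, e⟩ := h.fq c
      rw [mem_comap, show h.rho (lo (algebraMap (ZMod p) (ZMod p) c * 1)) = g from
        Units.ext (by rw [mul_one, h.rho_lo, e]; rfl)]
      exact hg)
  rintro _ ⟨x, rfl⟩
  exact (this.ge (mem_top x) : x ∈ G.comap h.rho)

omit [FiniteDimensional (ZMod p) V] in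
theorem Pair.rho_mem (h : Pair G s q) (x : S₂) : h.rho x ∈ G := h.rho_range hp5 ⟨x, rfl⟩

omit [FiniteDimensional (ZMod p) V] in
theorem up_eq_commutator (c : ZMod p) :
    ∃ D y : S₂, ⁅D, y⁆ = up c := by
  refine ⟨dia (2 : ZMod p) (-2⁻¹), up (c * 3⁻¹), ?_⟩
  rw [commutatorElement_def, dia_conj_up (by rw [mul_neg, mul_inv_cancel₀ (two_ne hp5)]), up_inv,
    up_add]
  congr 1
  field_simp [three_ne hp5]
  ring

omit [FiniteDimensional (ZMod p) V] in
theorem Pair.expU_mem_commutator (h : Pair G s q) : expU s ∈ ⁅G, G⁆ := by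
  obtain ⟨D, y, e⟩ := up_eq_commutator hp5 1
  rw [← h.rho_up_one, ← e, map_commutatorElement]
  exact commutator_mem_commutator (h.rho_mem hp5 D) (h.rho_mem hp5 y)

omit [FiniteDimensional (ZMod p) V] in
/-- Operators commuting with the quaternion elements commute with the pair. -/
theorem Pair.mem_subalgebra (h : Pair G s q) (B : Subalgebra (ZMod p) EV) (hI : (h.I : EV) ∈ B)
    (hJ : (h.J : EV) ∈ B) : s ∈ B ∧ q ∈ B := by
  have hf : s * q + q * s ∈ B := by
    have h1 : (2 : ZMod p)⁻¹ • ((1 : EV) - (h.I : EV) * h.I) ∈ B :=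
      B.smul_mem (sub_mem (one_mem B) (mul_mem hI hI)) _
    rwa [h.II, sub_sub_cancel, ← Nat.cast_smul_eq_nsmul (ZMod p), smul_smul, Nat.cast_ofNat,
      inv_mul_cancel₀ (two_ne hp5), one_smul] at h1
  have hg : (1 : EV) - (s * q + q * s) ∈ B := sub_mem (one_mem B) hf
  have hw : s - q ∈ B := by
    have := sub_mem hI hg
    rwa [h.I_val, add_sub_cancel_left] at this
  have hM : alpha p • (s * q - q * s) + beta p • (s + q) ∈ B := by
    have := sub_mem hJ hg
    rwa [h.J_val, add_sub_cancel_left] at this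
  have hwM : beta p • (s * q - q * s) - alpha p • (s + q) ∈ B := by
    have := mul_mem hw hM
    convert this using 1
    have e1 : (s - q) * (s * q - q * s) = -(s + q) := by
      linear_combination (norm := noncomm_ring) h.ss * q - h.sqs - h.qsq + h.qq * s
    have e2 : (s - q) * (s + q) = s * q - q * s := by
      linear_combination (norm := noncomm_ring) h.ss - h.qq
    rw [mul_add, mul_smul_comm, mul_smul_comm, e1, e2, smul_neg]
    abel
  have hS : s + q ∈ B := by
    have := sub_mem (B.smul_mem hwM (alpha p)) (B.smul_mem hM (beta p))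
    convert this using 1
    have h1 : -(alpha p * alpha p + beta p * beta p) = 1 := by
      linear_combination -(alpha_beta (p := p))
    calc s + q = (1 : ZMod p) • (s + q) := (one_smul _ _).symm
      _ = (-(alpha p * alpha p + beta p * beta p)) • (s + q) := by rw [h1]
      _ = _ := by module
  constructor
  · have := B.smul_mem (add_mem hS hw) (2 : ZMod p)⁻¹
    rwa [show s + q + (s - q) = (2 : ZMod p) • s by rw [two_smul]; abel, smul_smul,
      inv_mul_cancel₀ (two_ne hp5), one_smul] at this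
  · have := B.smul_mem (sub_mem hS hw) (2 : ZMod p)⁻¹
    rwa [show s + q - (s - q) = (2 : ZMod p) • q by rw [two_smul]; abel, smul_smul,
      inv_mul_cancel₀ (two_ne hp5), one_smul] at this

omit [FiniteDimensional (ZMod p) V] in
theorem Pair.commute_of_commute (h : Pair G s q) {r : EV} (hI : r * h.I = h.I * r)
    (hJ : r * h.J = h.J * r) : r * s = s * r ∧ r * q = q * r := by
  have := h.mem_subalgebra hp5 (Subalgebra.centralizer (ZMod p) {r})
    (Subalgebra.mem_centralizer_iff (R := ZMod p) |>.2 fun g hg => by rw [Set.mem_singleton_iff.1 hg]; exact hI)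
    (Subalgebra.mem_centralizer_iff (R := ZMod p) |>.2 fun g hg => by rw [Set.mem_singleton_iff.1 hg]; exact hJ)
  exact ⟨Subalgebra.mem_centralizer_iff (R := ZMod p) |>.1 this.1 r rfl,
    Subalgebra.mem_centralizer_iff (R := ZMod p) |>.1 this.2 r rfl⟩

omit [FiniteDimensional (ZMod p) V] in
/-- A pair does not generate a `p`-group. -/
theorem Pair.not_isPGroup (h : Pair G s q) : ¬ IsPGroup p G := by
  intro hG
  obtain ⟨k, hk⟩ := hG ⟨_, h.rho_mem hp5 wS⟩
  have hk' : h.I ^ p ^ k = 1 := congrArg Subtype.val hk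
  have h4 : h.I ^ 4 = 1 := by rw [Pair.I, ← map_pow, wS_four, map_one]
  have hg : Nat.gcd (p ^ k) 4 = 1 :=
    Nat.Coprime.pow_left _ ((Nat.Prime.coprime_iff_not_dvd Fact.out).2 fun hd => by
      have := Nat.le_of_dvd (by norm_num) hd; omega)
  have := pow_gcd_eq_one.2 ⟨hk', h4⟩
  rw [hg, pow_one, Pair.I, ← map_one h.rho] at this
  have := congrFun (congrFun (congrArg mat (h.rho_injective this)) 0) 1
  simp [wS_mat, mat_one] at this

omit [FiniteDimensional (ZMod p) V] in
theorem pow_p_of_cube {g : GLV} (h : op g * op g * op g = 0) : g ^ p = 1 := by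
  rcases subsingleton_or_nontrivial EV with hE | hE
  · exact Units.ext (Subsingleton.elim _ _)
  haveI : CharP EV p := charP_of_injective_algebraMap (algebraMap (ZMod p) EV).injective p
  refine Units.ext ?_
  rw [Units.val_pow_eq_pow_val, show (g : EV) = 1 + op g by rw [op, add_sub_cancel],
    add_pow_char_of_commute _ (Commute.one_left _), one_pow, Units.val_one]
  have hz : op g ^ 3 = 0 := by rw [pow_succ, pow_two, h]
  rw [pow_eq_zero_of_le (by omega : 3 ≤ p) hz, add_zero]

/-- Two roots with nilpotent product generate a `p`-group. -/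
theorem isPGroup_of_nil (hm : MinRank G d) {s t : EV} (hs : Root G d s) (ht : Root G d t)
    (hnil : IsNilpotent (t * s)) : IsPGroup p ↥(closure ({expU s, expU t} : Set GLV)) := by
  obtain ⟨N, hN, h1, h3⟩ := exists_cubeZero hm (two_ne hp5) (card_ne_three hp5) hs ht hnil
  rintro ⟨g, hg⟩
  refine ⟨1, Subtype.ext ?_⟩
  rw [SubgroupClass.coe_pow, pow_one]
  have hmem : op g ∈ N := op_mem_of_closure hN (fun x hx => by
    rcases hx with rfl | rfl
    · rw [op_expU hs.sq]; exact h1 hs.mem_cls
    · rw [op_expU ht.sq]; exact h3 ht.mem_cls) hg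
  exact pow_p_of_cube hp5 (hN.triple _ hmem _ hmem _ hmem)

/-- A root of a group without normal `p`-subgroups has an opposite. -/
theorem exists_opp_of_root [Finite GLV]
    (hO : ∀ N ≤ G, G ≤ normalizer (N : Set GLV) → IsPGroup p N → N = ⊥)
    (hm : MinRank G d) (hs : Root G d s) : ∃ q, Opp G d s q := by
  by_contra hcon
  push Not at hcon
  have hx : expU s ∈ G := expU_mem hs.fam hs.sq
  set x : G := ⟨expU s, hx⟩ with hxdef
  set A : Subgroup G := zpowers x with hA
  have hall : ∀ g : G, IsPGroup p ↥(A ⊔ MulAut.conj g • A) := by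
    intro g
    have ht : Root G d (conjOp (g : GLV) s) := hs.conj g.2
    have hnil : IsNilpotent (conjOp (g : GLV) s * s) := by
      by_contra hnil
      obtain ⟨q, -, hq⟩ := exists_opp hm (two_ne hp5) (card_ne_three hp5) hs ht hnil
      exact hcon q hq
    have hle : (A ⊔ MulAut.conj g • A).map G.subtype ≤
        closure {expU s, expU (conjOp (g : GLV) s)} := by
      rw [Subgroup.map_sup, hA, MonoidHom.map_zpowers,
        show MulAut.conj g • zpowers x = zpowers (g * x * g⁻¹) from MonoidHom.map_zpowers _ _,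
        MonoidHom.map_zpowers, sup_le_iff, zpowers_le, zpowers_le]
      refine ⟨subset_closure (Or.inl rfl), subset_closure (Or.inr ?_)⟩
      rw [Set.mem_singleton_iff, expU_conj _ hs.sq]
      rfl
    exact ((isPGroup_of_nil hp5 hm hs ht hnil).to_le hle).of_equiv
      (equivMapOfInjective _ G.subtype G.subtype_injective).symm
  have hsn := (CfsgLib.Core.isSubnormal_of_nilpotent_join fun g => (hall g).isNilpotent).1
  have hAp : IsPGroup p A := (hall 1).to_le le_sup_left
  have hxc : x ∈ pCore p G := Components.subnormal_pGroup_le_pCore hsn hAp (mem_zpowers _)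
  have hP := hO ((pCore p G).map G.subtype) (map_subtype_le _) (fun g hg => by
      rw [mem_normalizer_iff_map_conj_eq]
      show Subgroup.map (MulAut.conj g).toMonoidHom ((pCore p G).map G.subtype) = _
      rw [Subgroup.map_map, show (MulAut.conj g).toMonoidHom.comp G.subtype = G.subtype.comp (MulAut.conj (⟨g, hg⟩ : G)).toMonoidHom from rfl,
        ← Subgroup.map_map, Subgroup.characteristic_iff_map_eq.1 inferInstance])
    ((Components.pCore_isPGroup (G := ↥G) (p := p)).map _)
  have h1 : expU s = 1 := by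
    have : G.subtype x ∈ (pCore p G).map G.subtype := mem_map_of_mem _ hxc
    rw [hP, mem_bot] at this
    exact this
  apply hs.ne_zero hm
  rw [← op_expU hs.sq, h1, op_eq_zero]

/-- Roots outside a normal subgroup without normal `p`-subgroups centralise it. -/
theorem root_mem_or_commute [Finite GLV] (hm : MinRank G d) {N : Subgroup GLV} (hNG : N ≤ G)
    (hn : G ≤ normalizer (N : Set GLV))
    (hO : ∀ M ≤ N, N ≤ normalizer (M : Set GLV) → IsPGroup p M → M = ⊥)
    (hs : Root G d s) : expU s ∈ N ∨ ∀ n ∈ N, n * expU s = expU s * n := by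
  classical
  by_contra hcon
  push Not at hcon
  obtain ⟨hxN, n₀, hn₀, hne⟩ := hcon
  have hxG : expU s ∈ G := expU_mem hs.fam hs.sq
  set X : Subgroup GLV := N ⊔ zpowers (expU s) with hX
  have hxX : expU s ∈ X := mem_sup_right (mem_zpowers _)
  have hNX : N ≤ X := le_sup_left
  have hXG : X ≤ G := sup_le hNG (zpowers_le.2 hxG)
  have hXn : X ≤ normalizer (N : Set GLV) := hXG.trans hn
  have hnil : ∀ g ∈ X, IsNilpotent (conjOp g s * s) := by
    intro g hg
    by_contra hnil
    set L : Subgroup GLV := closure {expU s, g * expU s * g⁻¹} with hL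
    have hLX : L ≤ X := (closure_le _).2 (by
      rintro y (rfl | rfl)
      exacts [hxX, X.mul_mem (X.mul_mem hg hxX) (X.inv_mem hg)])
    have hmL : MinRank L d := ⟨hm.pos, fun y h1 h2 h3 => hm.min y h1 (fam_mono (hLX.trans hXG) h2) h3⟩
    have hsL : Root L d s := ⟨hs.sq, fam_of_expU_mem hs.sq (subset_closure (Or.inl rfl)), hs.rank⟩
    have htL : Root L d (conjOp g s) := ⟨conjOp_sq hs.sq, fam_of_expU_mem (conjOp_sq hs.sq)
      (by rw [expU_conj g hs.sq]; exact subset_closure (Or.inr rfl)), by rw [rk_conjOp]; exact hs.rank⟩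
    obtain ⟨q, -, hq⟩ := exists_opp hmL (two_ne hp5) (card_ne_three hp5) hsL htL hnil
    refine hxN ?_
    have h1 := commutator_mono hLX hLX ((Pair.of_opp hmL hq).expU_mem_commutator hp5)
    refine (commutator_le.2 fun a ha b hb => ?_) h1
    let π : ↥(normalizer (N : Set GLV)) →* ↥(normalizer (N : Set GLV)) ⧸ N.subgroupOf _ :=
      QuotientGroup.mk' _
    have hc : ∀ a, ∀ h : a ∈ X, π ⟨a, hXn h⟩ ∈ zpowers (π ⟨expU s, hXn hxX⟩) := by
      intro a ha
      have hx' : zpowers (expU s) ≤ normalizer (N : Set GLV) := zpowers_le.2 (hXn hxX)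
      have ha' := ha
      rw [hX, ← SetLike.mem_coe, coe_mul_of_right_le_normalizer_left N _ hx'] at ha'
      obtain ⟨m, hm', y, ⟨i, rfl⟩, rfl⟩ := ha'
      refine ⟨i, ?_⟩
      show π _ ^ i = _
      rw [← map_zpow]
      refine (QuotientGroup.eq).2 (mem_subgroupOf.2 ?_)
      simp only [Subgroup.coe_mul, Subgroup.coe_inv, SubgroupClass.coe_zpow]
      rw [← mul_assoc]
      have := (mem_normalizer_iff.1 (hx' ⟨-i, rfl⟩) m).1 hm'
      simpa [_root_.zpow_neg, mul_assoc] using this
    obtain ⟨i, hi⟩ := hc a ha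
    obtain ⟨j, hj⟩ := hc b hb
    have : π ⁅(⟨a, hXn ha⟩ : ↥(normalizer (N : Set GLV))), ⟨b, hXn hb⟩⁆ = 1 := by
      rw [map_commutatorElement, commutatorElement_eq_one_iff_mul_comm, ← hi, ← hj]
      exact zpow_mul_comm _ i j
    exact mem_subgroupOf.1 ((QuotientGroup.eq_one_iff _).1 this)
  set x : X := ⟨expU s, hxX⟩ with hxdef
  set A : Subgroup X := zpowers x with hA
  have hall : ∀ g : X, IsPGroup p ↥(A ⊔ MulAut.conj g • A) := by
    intro g
    have hle : (A ⊔ MulAut.conj g • A).map X.subtype ≤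
        closure {expU s, expU (conjOp (g : GLV) s)} := by
      rw [Subgroup.map_sup, hA, MonoidHom.map_zpowers,
        show MulAut.conj g • zpowers x = zpowers (g * x * g⁻¹) from MonoidHom.map_zpowers _ _,
        MonoidHom.map_zpowers, sup_le_iff, zpowers_le, zpowers_le]
      refine ⟨subset_closure (Or.inl rfl), subset_closure (Or.inr ?_)⟩
      rw [Set.mem_singleton_iff, expU_conj _ hs.sq]
      rfl
    exact ((isPGroup_of_nil hp5 hm hs (hs.conj (hXG g.2)) (hnil g g.2)).to_le hle).of_equiv
      (equivMapOfInjective _ X.subtype X.subtype_injective).symm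
  have hsn := (CfsgLib.Core.isSubnormal_of_nilpotent_join fun g => (hall g).isNilpotent).1
  have hxc : x ∈ pCore p X := Components.subnormal_pGroup_le_pCore hsn
    ((hall 1).to_le le_sup_left) (mem_zpowers _)
  set P : Subgroup GLV := (pCore p X).map X.subtype with hP
  have hXP : X ≤ normalizer (P : Set GLV) := fun g hg => by
    rw [mem_normalizer_iff_map_conj_eq, hP]
    show Subgroup.map (MulAut.conj g).toMonoidHom ((pCore p X).map X.subtype) = _
    rw [Subgroup.map_map, show (MulAut.conj g).toMonoidHom.comp X.subtype = X.subtype.comp (MulAut.conj (⟨g, hg⟩ : X)).toMonoidHom from rfl,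
      ← Subgroup.map_map, Subgroup.characteristic_iff_map_eq.1 inferInstance]
  have hbot := hO (P ⊓ N) inf_le_right
    (le_trans (le_inf (hNX.trans hXP) le_normalizer) inf_normalizer_le_normalizer_inf)
    (((Components.pCore_isPGroup (G := ↥X) (p := p)).map _).to_le inf_le_left)
  have hc : n₀ * expU s * n₀⁻¹ * (expU s)⁻¹ ∈ P ⊓ N := by
    refine ⟨P.mul_mem ((mem_normalizer_iff.1 (hXP (hNX hn₀)) _).1 ⟨x, hxc, rfl⟩)
      (P.inv_mem ⟨x, hxc, rfl⟩), ?_⟩
    rw [show n₀ * expU s * n₀⁻¹ * (expU s)⁻¹ = n₀ * (expU s * n₀⁻¹ * (expU s)⁻¹) by group]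
    exact N.mul_mem hn₀ ((mem_normalizer_iff.1 (hn hxG) _).1 (N.inv_mem hn₀))
  rw [hbot, mem_bot, ← commutatorElement_def, commutatorElement_eq_one_iff_mul_comm] at hc
  exact hne hc

end CfsgLib.PLocal.ZJCoprime
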